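import Cfsg.Agent.Fus.Meet.Gen.Extend
import Cfsg.Agent.Fus.Saturation

/-!
The system generated by a normal map is saturated, weakly normal and normal.
-/

set_option autoImplicit false

namespace CfsgLib.Meet.Gen

open Cfsg Cfsg.FusionSystem CfsgLib.Fus CfsgLib.NormalCent
open CfsgLib.Fus.Generated (Recv Sat Target stab)
open CfsgLib.Fus.PPrimeExist (onT autGroup_onT)

variable {Ω : Type*} [Group Ω] {S R : Subgroup Ω} {F : Cfsg.FusionSystem S} {p : ℕ}
  {A : ∀ P : Subgroup Ω, Subgroup (MulAut P)} (K : NormalMap F p R A)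

/-- The restrictions are restrictions of automorphisms of `N_R(P)`. -/
theorem res_ext [Finite R] {P : Subgroup Ω} (hPR : P ≤ R) {a : MulAut P} (ha : a ∈ res K P) :
    ∃ g, Mor (gen K) (normalizerIn R P) g ∧
      g '' (normalizerIn R P : Set Ω) = normalizerIn R P ∧ ∀ x : P, g x = ((a x : P) : Ω) := by
  have : Finite (normalizerIn R P) := finite_of_le (normalizerIn_le P)
  have hN := le_normalizerIn (S := R) hPR
  refine Subgroup.closure_induction (p := fun a _ => ∃ g, Mor (gen K) (normalizerIn R P) g ∧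
      g '' (normalizerIn R P : Set Ω) = normalizerIn R P ∧ ∀ x : P, g x = ((a x : P) : Ω))
    ?_ ?_ ?_ ?_ ha
  · rintro a ⟨g, hg, hga⟩
    have hgP : g '' (P : Set Ω) = P := by
      ext y
      constructor
      · rintro ⟨x, hx, rfl⟩; rw [hga ⟨x, hx⟩]; exact (a _).2
      · intro hy
        exact ⟨_, (a⁻¹ ⟨y, hy⟩).2, (hga _).trans
          (congrArg Subtype.val (a.apply_symm_apply ⟨y, hy⟩))⟩
    obtain ⟨M, hM, -⟩ := hg.exists_img (le_refl (normalizerIn R P))
    refine ⟨g, hg, ?_, hga⟩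
    rw [hM]
    congr 1
    refine Subgroup.eq_of_le_of_card_ge (fun y hy => ?_) (hg.card_img le_rfl hM).ge
    obtain ⟨x, hx, rfl⟩ := hM.symm.subset hy
    exact hg.map_normalizer hN hgP hx hx.2
  · exact ⟨id, mor_id (normalizerIn_le P), Set.image_id _, fun x => rfl⟩
  · rintro a b - - ⟨g, hg, hgN, hga⟩ ⟨h, hh, hhN, hhb⟩
    refine ⟨g ∘ h, hh.comp hg fun x hx => hhN.subset ⟨x, hx, rfl⟩, by
      rw [Set.image_comp, hhN, hgN], fun x => ?_⟩
    show g (h x) = ((a (b x) : P) : Ω)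
    rw [hhb, hga]
  · rintro a - ⟨g, hg, hgN, hga⟩
    obtain ⟨h, hh, hl, -, hhN⟩ := hg.exists_inv hgN
    refine ⟨h, hh, hhN, fun y => ?_⟩
    obtain ⟨x, rfl⟩ := a.surjective y
    rw [MulAut.inv_apply_self, ← hga, hl _ (hN x.2)]

theorem res_le [Finite R] {P : Subgroup Ω} (hPR : P ≤ R) : res K P ≤ (gen K).autGroup P := by
  intro a ha
  obtain ⟨g, hg, -, hga⟩ := res_ext K hPR ha
  obtain ⟨φ, hφ, hφe⟩ := hg.restrict (le_normalizerIn hPR)
  refine (mem_autGroup_iff _ hPR).2 ?_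
  have e : P.subtype.comp a.toMonoidHom = φ := MonoidHom.ext fun x => ((hφe x).trans (hga x)).symm
  exact e ▸ hφ

variable [Finite R] [Fact p.Prime] (hRp : IsPGroup p R)

include hRp in
theorem autGroup_eq {P : Subgroup Ω} (hP : (gen K).IsFullyNormalized P) (htc : TCentric F R P)
    (hPne : P ≠ R) (hbig : ∀ M, M ≤ R → Nat.card P < Nat.card M → Sat (gen K) p M) :
    (gen K).autGroup P = A P ⊔ res K P := by
  refine le_antisymm (fun a ha => ?_) (sup_le (gen_gen K htc) (res_le K hP.1))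
  obtain ⟨f, hf, hfe, hfi⟩ := exists_mor_of_aut hP.1 ⟨a, ha⟩
  obtain ⟨k, hk, hke⟩ := inK_of_mor K hRp hP htc hPne hbig hf hfi
  have e : k = a := MulEquiv.ext fun x => Subtype.ext ((hke x).trans (hfe x))
  exact e ▸ hk

include hRp in
/-- `A P` has index prime to `p` in the automizer. -/
theorem index_A {P : Subgroup Ω} (hP : (gen K).IsFullyNormalized P) (htc : TCentric F R P)
    (hPne : P ≠ R) (hbig : ∀ M, M ≤ R → Nat.card P < Nat.card M → Sat (gen K) p M) :
    ¬ p ∣ (A P).relIndex ((gen K).autGroup P) := by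
  have hPR := hP.1
  set N := normalizerIn R P
  have : Finite P := finite_of_le hPR
  have := finite_mulAut P
  have : Finite N := finite_of_le (normalizerIn_le P)
  have hPN : P ≤ N := le_normalizerIn hPR
  obtain ⟨y, hy, hyP⟩ := Fusion.Alperin.exists_normalizing_not_mem hRp hPR hPne
  have hlt : Nat.card P < Nat.card N :=
    Fusion.Alperin.card_lt_of_le_of_mem (normalizerIn_le P) hPN hy hyP
  obtain ⟨K', P₁, σ, hσ⟩ := Generated.exists_target hRp (hbig N (normalizerIn_le P) hlt) hPN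
  have hσmem : ∀ x ∈ N, σ x ∈ normalizerIn R P₁ := fun x hx =>
    hσ.mor.map_normalizer hPN hσ.imgQ hx hx.2
  have hP₁c : (gen K).IsConj P P₁ := (hσ.mor.restrict hPN).isConj hσ.imgQ
  have : Finite (normalizerIn R P₁) := finite_of_le (normalizerIn_le P₁)
  have hK'e : K' = normalizerIn R P₁ := by
    refine Subgroup.eq_of_le_of_card_ge (fun y hy => ?_) ?_
    · obtain ⟨x, hx, rfl⟩ := hσ.img.symm.subset hy
      exact hσmem x hx
    · rw [hσ.mor.card_img le_rfl hσ.img]
      exact hP.2 P₁ hP₁c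
  subst hK'e
  obtain ⟨ψ, hψ, hψl, -, hψN⟩ := hσ.mor.exists_inv hσ.img
  have hψi : ψ '' (P₁ : Set Ω) = P := by
    rw [← hσ.imgQ]
    exact Generated.image_image_eq fun x hx => hψl x (hPN hx)
  have hP₁R := isConj_le_right hP₁c
  obtain ⟨Δ, hΔ, hΔU⟩ := exists_delta K hψ hψi (normalizerIn_le P₁) (le_normalizerIn hP₁R)
  set An := (A P).subgroupOf ((gen K).autGroup P)
  have : An.Normal := ⟨fun n hn g => A_conj K htc (gen_aut_le_F K g.2) hn⟩
  set q := (QuotientGroup.mk' An).comp Δ with hq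
  have hres : ∀ a : ((gen K).autGroup P), (a : MulAut P) ∈ res K P → ∃ c, Δ c = a := by
    intro a ha
    obtain ⟨g, hg, hgN, hga⟩ := res_ext K hPR ha
    have hgP : g '' (P : Set Ω) = P := by
      ext y
      constructor
      · rintro ⟨x, hx, rfl⟩; rw [hga ⟨x, hx⟩]; exact ((a : MulAut P) _).2
      · intro hy
        exact ⟨_, ((a : MulAut P)⁻¹ ⟨y, hy⟩).2, (hga _).trans
          (congrArg Subtype.val ((a : MulAut P).apply_symm_apply ⟨y, hy⟩))⟩
    have hh : Mor (gen K) (normalizerIn R P₁) (σ ∘ (g ∘ ψ)) :=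
      (hψ.comp hg fun x hx => hψN.subset ⟨x, hx, rfl⟩).comp hσ.mor fun x hx =>
        hgN.subset ⟨_, hψN.subset ⟨x, hx, rfl⟩, rfl⟩
    obtain ⟨c, hc⟩ := exists_aut_of_mor hh
      (by rw [Set.image_comp, Set.image_comp, hψN, hgN, hσ.img])
    have hP₁ : (σ ∘ (g ∘ ψ)) '' (P₁ : Set Ω) = P₁ := by
      rw [Set.image_comp, Set.image_comp, hψi, hgP, hσ.imgQ]
    have hcs : c ∈ stab (gen K) (normalizerIn R P₁) P₁ := fun x => by
      rw [hc, ← SetLike.mem_coe, ← hP₁,
        hh.injOn.mem_image_iff (fun _ h => le_normalizerIn hP₁R h) x.2]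
      rfl
    refine ⟨⟨c, hcs⟩, Subtype.ext (MulEquiv.ext fun y => Subtype.ext ?_)⟩
    obtain ⟨x, hx, hxy⟩ := hψi.symm.subset y.2
    have hxP : ψ x ∈ P := hxy ▸ y.2
    rw [show y = ⟨ψ x, hxP⟩ from Subtype.ext hxy.symm,
      hΔ _ x hx (le_normalizerIn hP₁R hx) hxP]
    show ψ _ = _
    rw [hc, ← hga]
    exact hψl _ (hgN.subset ⟨_, hPN hxP, rfl⟩)
  have hsurj : Function.Surjective q := by
    intro z
    obtain ⟨a, rfl⟩ := QuotientGroup.mk'_surjective An z
    have hGe := autGroup_eq K hRp hP htc hPne hbig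
    have htop : (res K P).subgroupOf ((gen K).autGroup P) ⊔ An = ⊤ := by
      rw [← Subgroup.subgroupOf_sup (res_le K hPR) (gen_gen K htc), sup_comm, ← hGe]
      exact Subgroup.subgroupOf_self _
    obtain ⟨r, hr, n, hn, rfl⟩ :=
      Subgroup.mem_sup_of_normal_right.1 (htop ▸ Subgroup.mem_top a)
    obtain ⟨c, rfl⟩ := hres r hr
    refine ⟨c, ?_⟩
    show QuotientGroup.mk' An (Δ c) = _
    rw [map_mul, show QuotientGroup.mk' An n = 1 from (QuotientGroup.eq_one_iff n).2 hn, mul_one]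
  obtain ⟨U, hU⟩ := hσ.syl
  have hle : (U : Subgroup _) ≤ q.ker := fun c hc => by
    rw [hU] at hc
    exact (QuotientGroup.eq_one_iff (Δ c)).2 (K.induced_le P htc (hΔU c hc))
  have hcard : An.index = q.ker.index := by
    rw [Subgroup.index_ker, MonoidHom.range_eq_top.2 hsurj, Subgroup.card_top,
      Subgroup.index_eq_card]
  intro hdvd
  have : Finite (normalizerIn R P₁) := finite_of_le (normalizerIn_le P₁)
  have := finite_mulAut (normalizerIn R P₁)
  exact U.not_dvd_index ((hcard ▸ hdvd : p ∣ q.ker.index).trans (Subgroup.index_dvd_of_le hle))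

variable [Finite S] (hS : IsPGroup p S)

include hS in
theorem fullyAutomized_of_tc {P : Subgroup Ω} (hP : (gen K).IsFullyNormalized P)
    (htc : TCentric F R P) (hPne : P ≠ R)
    (hbig : ∀ M, M ≤ R → Nat.card P < Nat.card M → Sat (gen K) p M) :
    (gen K).IsFullyAutomized p P := by
  have hRp : IsPGroup p R := hS.to_le K.closed.1
  have : Finite P := finite_of_le hP.1
  have := finite_mulAut P
  obtain ⟨X, hX⟩ := sylow_A K hS hP htc
  have h1 : ¬ p ∣ (Cfsg.autInducedBy R P).relIndex (A P) := by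
    rw [Subgroup.relIndex, ← hX]; exact X.not_dvd_index
  have h2 : ¬ p ∣ (Cfsg.autInducedBy R P).relIndex ((gen K).autGroup P) := by
    rw [← Subgroup.relIndex_mul_relIndex _ _ _ (K.induced_le P htc) (gen_gen K htc),
      (Fact.out : p.Prime).dvd_mul, not_or]
    exact ⟨h1, index_A K hRp hP htc hPne hbig⟩
  have hp : IsPGroup p ((Cfsg.autInducedBy R P).subgroupOf ((gen K).autGroup P)) :=
    (isPGroup_autInducedBy hRp P).comap_of_injective _ (Subgroup.subtype_injective _)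
  exact ⟨hP.1, hp.toSylow h2, rfl⟩

include hS in
theorem receptive_of_tc {P : Subgroup Ω} (hP : (gen K).IsFullyNormalized P)
    (htc : TCentric F R P) (hPne : P ≠ R)
    (hbig : ∀ M, M ≤ R → Nat.card P < Nat.card M → Sat (gen K) p M) :
    (gen K).IsReceptive P := by
  have hRp : IsPGroup p R := hS.to_le K.closed.1
  have hPR := hP.1
  refine ⟨hPR, fun Q φ hφ hr => ?_⟩
  have hQR := hom_le _ hφ
  obtain ⟨fφ, hfφ, hfφe⟩ := exists_mor hφ
  have hfφi : fφ '' (Q : Set Ω) = P := by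
    rw [← hr]
    ext y
    constructor
    · rintro ⟨x, hx, rfl⟩; exact ⟨⟨x, hx⟩, (hfφe ⟨x, hx⟩).symm⟩
    · rintro ⟨x, rfl⟩; exact ⟨x, x.2, hfφe x⟩
  have hQc : (gen K).IsConj P Q := isConj_symm (hfφ.isConj hfφi)
  obtain ⟨r, hrm, hri⟩ := recv_all K hRp hPne hP hbig hQc
  have hQN := le_normalizerIn (S := R) hQR
  obtain ⟨ri, hrim, hrl, -, hrii⟩ := (hrm.restrict hQN).exists_inv hri
  obtain ⟨k, hk⟩ := exists_aut_of_mor (hrim.comp hfφ fun x hx => hrii.subset ⟨x, hx, rfl⟩)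
    (by rw [Set.image_comp, hrii, hfφi])
  -- `k` is a restriction after an element of `A P`
  have : ((A P).subgroupOf ((gen K).autGroup P)).Normal := ⟨fun n hn g => A_conj K htc (gen_aut_le_F K g.2) hn⟩
  have htop : (res K P).subgroupOf ((gen K).autGroup P) ⊔ (A P).subgroupOf ((gen K).autGroup P) = ⊤ := by
    rw [← Subgroup.subgroupOf_sup (res_le K hPR) (gen_gen K htc), sup_comm,
      ← autGroup_eq K hRp hP htc hPne hbig]
    exact Subgroup.subgroupOf_self _
  obtain ⟨d, hd, a, ha, hda⟩ := Subgroup.mem_sup_of_normal_right.1 (htop ▸ Subgroup.mem_top k)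
  obtain ⟨u, hu, huN, hud⟩ := res_ext K hPR hd
  have hkx : ∀ x : P, fφ (ri x) = u (((a : MulAut P) x : P) : Ω) := fun x => by
    rw [hud, ← show fφ (ri x) = _ from rfl, ← Function.comp_apply (f := fφ), ← hk x, ← hda]
    rfl
  set L := extender R Q φ with hL
  have hLN : L ≤ normalizerIn R Q := extender_le_normalizerIn
  obtain ⟨M, hM, -⟩ := hrm.exists_img hLN
  have hrN : ∀ l ∈ L, r l ∈ normalizerIn R P := fun l hl =>
    hrm.map_normalizer hQN hri (hLN hl) (hLN hl).2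
  have hPM : P ≤ M := fun y hy => by
    obtain ⟨x, hx, rfl⟩ := hri.symm.subset hy
    exact hM.subset ⟨x, le_extender _ hφ hx, rfl⟩
  have hMN : M ≤ normalizerIn R P := fun y hy => by
    obtain ⟨x, hx, rfl⟩ := hM.symm.subset hy
    exact hrN x hx
  set J : Subgroup (A P) := (Cfsg.autInducedBy M P).subgroupOf (A P) with hJdef
  have hMR : M ≤ R := hMN.trans (normalizerIn_le P)
  have hJ : J.map (A P).subtype ≤ Cfsg.autInducedBy R P := by
    rintro _ ⟨b, hb, rfl⟩
    obtain ⟨m, hm, hmx⟩ := Generated.mem_autInducedBy_of_sat hb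
    exact mem_autInducedBy_iff.2 ⟨m, hMR hm.1, hmx⟩
  have hMpre : M ≤ pre R P (J.map (A P).subtype) := fun m hm => mem_pre.2 ⟨hMN hm, _,
    ⟨⟨_, K.induced_le P htc (conjAut_mem_autInducedBy (hMN hm).2 (hMN hm).1)⟩,
      conjAut_mem_autInducedBy (hMN hm).2 hm, rfl⟩, fun x => rfl⟩
  have haJ : (J.map (MulAut.conj (⟨a, ha⟩ : A P)).toMonoidHom).map (A P).subtype ≤
      Cfsg.autInducedBy R P := by
    rintro _ ⟨_, ⟨b, hb, rfl⟩, rfl⟩
    obtain ⟨m, hm, hmx⟩ := Generated.mem_autInducedBy_of_sat hb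
    obtain ⟨l, hl, rfl⟩ := hM.symm.subset hm.1
    obtain ⟨-, hlN, h, hh, hhe⟩ := mem_extender_iff.1 hl
    have hhN : h ∈ normalizerIn R P := by
      refine ⟨hh, mem_normalizer_of_aut
        (α := MulAut.congr (isoOf hφ hr) (conjAut hlN)) fun y => ?_⟩
      obtain ⟨x, rfl⟩ := (isoOf hφ hr).surjective y
      show φ (conjAut hlN ((isoOf hφ hr).symm (isoOf hφ hr x))) = _
      rw [MulEquiv.symm_apply_apply, isoOf_apply]
      exact hhe x (conj_mem_of_normalizer hlN x.2)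
    obtain ⟨z, hz, hzh⟩ := huN.symm.subset hhN
    refine mem_autInducedBy_iff.2 ⟨z, hz.1, fun y => ?_⟩
    obtain ⟨x, rfl⟩ := (a : MulAut P).surjective y
    show ((((a : MulAut P) ((b : MulAut P) ((a : MulAut P)⁻¹ ((a : MulAut P) x))) : P) : Ω)) = _
    rw [MulAut.inv_apply_self]
    have hxN : (((a : MulAut P) x : P) : Ω) ∈ normalizerIn R P :=
      le_normalizerIn hPR ((a : MulAut P) x).2
    have hbN : ((((a : MulAut P) ((b : MulAut P) x)) : P) : Ω) ∈ normalizerIn R P :=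
      le_normalizerIn hPR ((a : MulAut P) _).2
    refine hu.injOn hbN (Subgroup.mul_mem _ (Subgroup.mul_mem _ hz hxN) (Subgroup.inv_mem _ hz)) ?_
    rw [← hkx, hu.map_conj hz hxN, hzh, ← hkx, show (((b : MulAut P) x : P) : Ω) = _ from hmx x]
    obtain ⟨q, hq, hqx⟩ := hri.symm.subset x.2
    have hlq : l * q * l⁻¹ ∈ Q := conj_mem_of_normalizer hlN hq
    rw [← hqx, ← hrm.map_conj (hLN hl) (hQN hq), hrl _ hlq, hrl _ hq,
      show fφ (l * q * l⁻¹) = _ from hfφe ⟨_, hlq⟩, show fφ q = _ from hfφe ⟨q, hq⟩]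
    exact hhe ⟨q, hq⟩ hlq
  obtain ⟨t, ht, hta⟩ := ext_all K hS hP htc hJ haJ (hPM.trans hMpre)
  have htP : t '' (P : Set Ω) = P := by
    ext y
    constructor
    · rintro ⟨x, hx, rfl⟩; rw [hta ⟨x, hx⟩]; exact ((a : MulAut P) _).2
    · intro hy
      exact ⟨_, ((a : MulAut P)⁻¹ ⟨y, hy⟩).2, (hta _).trans
        (congrArg Subtype.val ((a : MulAut P).apply_symm_apply ⟨y, hy⟩))⟩
  have htM := ht.restrict hMpre
  obtain ⟨ω, hω, hωe⟩ := ((hrm.restrict hLN).comp htM fun l hl => hM.subset ⟨l, hl, rfl⟩).comp hu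
    fun l hl => htM.map_normalizer hPM htP (hM.subset ⟨l, hl, rfl⟩) (hrN l hl).2
  refine ⟨ω, hω, fun x hxQ hxL => ?_⟩
  have hrx : r x ∈ P := hri.subset ⟨x, hxQ, rfl⟩
  rw [hωe, ← hfφe ⟨x, hxQ⟩]
  show u (t (r x)) = fφ x
  rw [show t (r x) = _ from hta ⟨r x, hrx⟩, ← hkx ⟨r x, hrx⟩, hrl x hxQ]

include hS in
theorem sat_all {P : Subgroup Ω} (hP : P ≤ R) : Sat (gen K) p P := by
  have hRp : IsPGroup p R := hS.to_le K.closed.1
  have htR : (gen K).autGroup R = A R := autGroup_top K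
  induction hn : Nat.card R - Nat.card P using Nat.strong_induction_on generalizing P with
  | _ n ih =>
  by_cases hPe : P = R
  · subst hPe
    have htc : TCentric F P P := by
      obtain ⟨Q, hQ, hQS⟩ := exists_fullyNormalized (gen K) (le_refl P)
      exact tc_of_centric K hS (isCentric_top (gen K))
    have hfn := isFullyNormalized_top (gen K)
    obtain ⟨X, hX⟩ := sylow_A K hS hfn htc
    refine ⟨P, isConj_refl _ le_rfl, ⟨le_rfl, ?_⟩, le_rfl, fun Q φ hφ hr => ?_⟩
    · rw [htR]; exact ⟨X, hX⟩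
    · have hQ : Q = P := isConj_top_eq (isConj_symm ⟨φ, hφ, hr⟩)
      subst hQ
      exact ⟨_, restrict_mem _ hφ (extender_le_normalizerIn.trans (normalizerIn_le Q)),
        fun x hx hxL => rfl⟩
  obtain ⟨Q, hPQ, hQ⟩ := exists_fullyNormalized (gen K) hP
  have hQne : Q ≠ R := fun e => hPe (Subgroup.eq_of_le_of_card_ge hP
    (by rw [isConj_card hPQ, e]))
  have hbig : ∀ M, M ≤ R → Nat.card Q < Nat.card M → Sat (gen K) p M := by
    intro M hM hlt
    refine ih (Nat.card R - Nat.card M) ?_ hM rfl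
    have : Nat.card M ≤ Nat.card R := Subgroup.card_le_of_le hM
    have := isConj_card hPQ
    omega
  by_cases htc : TCentric F R Q
  · exact ⟨Q, hPQ, fullyAutomized_of_tc K hS hQ htc hQne hbig,
      receptive_of_tc K hS hQ htc hQne hbig⟩
  obtain ⟨T, hQT, hT⟩ := Generated.sat_step (ℋ := {X | TCentric F R X}) hRp hQne hQ hbig
    (fun T hT hTc => htc (tc_of_conj K.closed hTc (isConj_symm (hT.imp fun φ h => ⟨gen_sub K _ h.1, h.2⟩))))
    (fun E hE => gen_le K fun X hX a ha => (mem_autGroup_iff _ hX.1).2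
      (hE X hX ((mem_autGroup_iff _ hX.1).1 (gen_gen K hX ha))))
    (fun hc => absurd (tc_of_centric K hS hc) htc)
  exact ⟨T, isConj_trans hPQ hQT, hT⟩

include hS in
/-- The generated system is saturated. -/
theorem isSaturated : (gen K).IsSaturated p := fun _ hP => sat_all K hS hP

omit [Finite R] in
include hS in
/-- The generated system is weakly normal. -/
theorem isWeaklyNormalIn : (gen K).IsWeaklyNormalIn F p := by
  have hRS := K.closed.1
  have : Finite R := finite_of_le hRS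
  refine ⟨isSaturated K hS, K.saturated, gen_sub K, K.closed, ?_, ?_⟩
  · intro P hP φ hφ α hα
    obtain ⟨χ, hχ, hχe⟩ := (eInv_gen K hφ).2 α ((autGroup_onT K.closed).2 hα)
    refine ⟨χ, hχ, fun x hφx hαx => ?_⟩
    rw [← autFun_apply α hφx]
    refine Eq.trans ?_ (hχe x (autFun_mem_autImg α hP x.2))
    congr 1
    exact Subtype.ext (autFun_apply α (hP x.2)).symm
  · intro P hP φ hφ
    obtain ⟨a, ha, φ₀, h₀, he⟩ := eFac_all K hS hP hφ
    exact ⟨a, (autGroup_onT K.closed).1 ha, φ₀, h₀.mem_E,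
      fun x hx => (he x).trans (autFun_apply a hx)⟩

omit [Finite R] in
include hS in
/-- The generated system is normal. -/
theorem isNormalIn : (gen K).IsNormalIn F p := by
  refine ⟨isWeaklyNormalIn K hS, fun α hα => ?_⟩
  have hRS := K.closed.1
  have : Finite R := finite_of_le hRS
  rw [autGroup_top] at hα
  obtain ⟨f, hf, hfα, hfc⟩ := K.top_lift α hα
  set N := R ⊔ centralizerIn S R
  have hNS : N ≤ S := sup_le hRS (centralizerIn_le R)
  have : Finite N := finite_of_le hNS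
  obtain ⟨M, hM, -⟩ := hf.exists_img (le_refl N)
  have hMN : M = N := Subgroup.eq_of_le_of_card_ge (fun y hy => by
    obtain ⟨x, hx, rfl⟩ := hM.symm.subset hy
    exact LiftsQ.mapsTo hf hfα hfc x hx) (hf.card_img le_rfl hM).ge
  obtain ⟨β, hβ⟩ := exists_aut_of_mor hf (by rw [hM, hMN])
  refine ⟨β, β.2, fun x => (hβ _).trans (hfα x), fun c hc => ?_⟩
  rw [hβ]
  refine ⟨hfc _ hc, Subgroup.mem_centralizer_iff.2 fun y hy => ?_⟩
  obtain ⟨x, rfl⟩ : ∃ x : R, f x = y := ⟨α⁻¹ ⟨y, hy⟩, by rw [hfα, MulAut.apply_inv_self]⟩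
  have h1 : f x * f c = f c * f x := by
    rw [← hf.map_mul (Subgroup.mem_sup_left x.2) c.2, ← hf.map_mul c.2 (Subgroup.mem_sup_left x.2),
      hc.2 x x.2]
  have h2 : f x * (c : Ω) = c * f x := hc.2 _ (by rw [hfα]; exact (α x).2)
  calc f x * ((c : Ω)⁻¹ * f c) = (c : Ω)⁻¹ * ((c : Ω) * f x) * (c : Ω)⁻¹ * f c := by group
    _ = (c : Ω)⁻¹ * (f x * c) * (c : Ω)⁻¹ * f c := by rw [h2]
    _ = (c : Ω)⁻¹ * (f x * f c) := by group
    _ = (c : Ω)⁻¹ * (f c * f x) := by rw [h1]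
    _ = (c : Ω)⁻¹ * f c * f x := by group

end CfsgLib.Meet.Gen
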