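import Cfsg.Agent.Fus.Meet.Gen.Receive

/-!
The automizer of a fully normalized `R`-centric subgroup `P` in the generated system: `A P` times
the restrictions of automorphisms of `N_R(P)`.
-/

set_option autoImplicit false

namespace CfsgLib.Meet.Gen

open Cfsg Cfsg.FusionSystem CfsgLib.Fus CfsgLib.NormalCent
open CfsgLib.Fus.Generated (Recv Sat Target stab)
open scoped Pointwise

variable {Ω : Type*} [Group Ω] {S R : Subgroup Ω} {F : Cfsg.FusionSystem S} {p : ℕ}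
  {A : ∀ P : Subgroup Ω, Subgroup (MulAut P)} (K : NormalMap F p R A)

/-- Restrictions to `P` of generated maps on `N_R(P)`. -/
def res (P : Subgroup Ω) : Subgroup (MulAut P) :=
  Subgroup.closure {a | ∃ g, Mor (gen K) (normalizerIn R P) g ∧ ∀ x : P, g x = ((a x : P) : Ω)}

/-- `g` agrees on `P` with an element of `A P` times a restriction. -/
def InK (P : Subgroup Ω) (g : Ω → Ω) : Prop :=
  ∃ k ∈ A P ⊔ res K P, ∀ x : P, ((k x : P) : Ω) = g x

variable {K}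

theorem InK.congr {P : Subgroup Ω} {g h : Ω → Ω} (hg : InK K P g) (e : ∀ x ∈ P, h x = g x) :
    InK K P h := by
  obtain ⟨k, hk, hke⟩ := hg
  exact ⟨k, hk, fun x => (hke x).trans (e x x.2).symm⟩

theorem InK.mapsTo {P : Subgroup Ω} {g : Ω → Ω} (hg : InK K P g) {x : Ω} (hx : x ∈ P) :
    g x ∈ P := by
  obtain ⟨k, -, hke⟩ := hg
  rw [← hke ⟨x, hx⟩]
  exact (k _).2

theorem InK.comp {P : Subgroup Ω} {g h : Ω → Ω} (hg : InK K P g) (hh : InK K P h) :
    InK K P (h ∘ g) := by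
  obtain ⟨k, hk, hke⟩ := hg
  obtain ⟨l, hl, hle⟩ := hh
  refine ⟨l * k, mul_mem hl hk, fun x => ?_⟩
  show ((l (k x) : P) : Ω) = h (g x)
  rw [hle, hke]

theorem InK.inv {P : Subgroup Ω} {g h : Ω → Ω} (hg : InK K P g) (e : ∀ x ∈ P, h (g x) = x) :
    InK K P h := by
  obtain ⟨k, hk, hke⟩ := hg
  refine ⟨k⁻¹, inv_mem hk, fun y => ?_⟩
  conv_rhs => rw [← MulAut.apply_inv_self _ k y, hke]
  rw [e _ (k⁻¹ y).2]

theorem inK_of_A {P : Subgroup Ω} {a : MulAut P} (ha : a ∈ A P) {g : Ω → Ω}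
    (e : ∀ x : P, g x = ((a x : P) : Ω)) : InK K P g :=
  ⟨a, Subgroup.mem_sup_left ha, fun x => (e x).symm⟩

theorem inK_conj {P : Subgroup Ω} (hP : TCentric F R P) {s : Ω} (hs : s ∈ normalizerIn R P) :
    InK K P (fun x => s * x * s⁻¹) :=
  inK_of_A (K.induced_le P hP (conjAut_mem_autInducedBy hs.2 hs.1)) fun _ => rfl

theorem inK_res {P : Subgroup Ω} {g : Ω → Ω} (hg : Mor (gen K) (normalizerIn R P) g)
    (hPR : P ≤ R) (hgP : g '' (P : Set Ω) = P) : InK K P g := by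
  obtain ⟨a, hae⟩ := exists_aut_of_mor (hg.restrict (le_normalizerIn hPR)) hgP
  exact ⟨_, Subgroup.mem_sup_right (Subgroup.subset_closure
    ⟨g, hg, fun x => (hae x).symm⟩), fun x => hae x⟩

variable (K)

include K in
theorem A_conj {P : Subgroup Ω} (hP : TCentric F R P) {g a : MulAut P} (hg : g ∈ F.autGroup P)
    (ha : a ∈ A P) : g * a * g⁻¹ ∈ A P := by
  have hg' := (mem_autGroup_iff F (hP.1.trans K.closed.1)).1 hg
  have h1 := K.conj hP hg' (range_subtype_comp _) a ha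
  rwa [Fusion.Alperin.congr_subtype_comp hg'] at h1

theorem gen_aut_le_F {P : Subgroup Ω} : (gen K).autGroup P ≤ F.autGroup P :=
  autGroup_mono (gen_sub K) P

variable [Finite R] [Fact p.Prime] (hRp : IsPGroup p R)

omit [Finite R] [Fact p.Prime] in
/-- The stabilizer of `P₁` in `Aut(K')`, transported to `P` by a receiving map. -/
theorem exists_delta {P P₁ K' : Subgroup Ω} {ψ : Ω → Ω}
    (hψ : Mor (gen K) (normalizerIn R P₁) ψ) (hψi : ψ '' (P₁ : Set Ω) = P) (hK'R : K' ≤ R)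
    (hP₁K' : P₁ ≤ K') :
    ∃ Δ : stab (gen K) K' P₁ →* (gen K).autGroup P,
      (∀ c, ∀ x ∈ P₁, ∀ (hx : x ∈ K') (hxP : ψ x ∈ P), (((Δ c : MulAut P) ⟨ψ x, hxP⟩ : P) : Ω) =
        ψ ((((c : (gen K).autGroup K') : MulAut K') ⟨x, hx⟩ : K') : Ω)) ∧
      ∀ c : stab (gen K) K' P₁, ((c : (gen K).autGroup K') : MulAut K') ∈
        Cfsg.autInducedBy R K' → (Δ c : MulAut P) ∈ Cfsg.autInducedBy R P := by
  obtain ⟨ρ, hρ⟩ := Generated.exists_res (F := gen K) hK'R hP₁K'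
  have hP₁R := hP₁K'.trans hK'R
  have hψP₁ := hψ.restrict (le_normalizerIn hP₁R)
  obtain ⟨θ, -, hθ⟩ := Generated.exists_transport hψP₁ hψi
  have hval : ∀ c, ∀ x ∈ P₁, ∀ (hx : x ∈ K') (hxP : ψ x ∈ P),
      (((θ (ρ c) : MulAut P) ⟨ψ x, hxP⟩ : P) : Ω) =
        ψ ((((c : (gen K).autGroup K') : MulAut K') ⟨x, hx⟩ : K') : Ω) := fun c x hx1 hx hxP => by
    rw [hθ (ρ c) ⟨x, hx1⟩ hxP, hρ c ⟨x, hx1⟩]
    rfl
  refine ⟨θ.comp ρ, hval, fun c hc => ?_⟩
  obtain ⟨s, hs, hsx⟩ := Generated.mem_autInducedBy_of_sat hc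
  have hsP₁ : s ∈ normalizerIn R P₁ := by
    refine ⟨hs.1, mem_normalizer_of_aut (α := (ρ c : MulAut P₁)) fun x => ?_⟩
    exact (hρ c x).trans (hsx _)
  refine mem_autInducedBy_iff.2 ⟨ψ s, hψ.mem hsP₁, fun y => ?_⟩
  obtain ⟨x, hx, hxy⟩ := hψi.symm.subset y.2
  have hxP : ψ x ∈ P := hxy ▸ y.2
  rw [show y = ⟨ψ x, hxP⟩ from Subtype.ext hxy.symm]
  show (((θ (ρ c) : MulAut P) ⟨ψ x, hxP⟩ : P) : Ω) = _
  rw [hval c x hx (hP₁K' hx) hxP, hsx]
  exact hψ.map_conj hsP₁ (le_normalizerIn hP₁R hx)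

include hRp in
/-- A generated map stabilizing a fully normalized `P` on a bigger subgroup of `N_R(P)`. -/
theorem inK_of_link {P : Subgroup Ω} (hP : (gen K).IsFullyNormalized P) (htc : TCentric F R P)
    (hPne : P ≠ R) (hbig : ∀ M, M ≤ R → Nat.card P < Nat.card M → Sat (gen K) p M)
    {N : Subgroup Ω} {g : Ω → Ω} (hPN : P ≤ N) (hNP : N ≤ normalizerIn R P)
    (hlt : Nat.card P < Nat.card N) (hg : Mor (gen K) N g) (hgi : g '' (P : Set Ω) = P) :
    InK K P g := by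
  classical
  have hPR := hP.1
  induction hn : Nat.card R - Nat.card N using Nat.strong_induction_on generalizing N g with
  | _ n ih =>
  by_cases hNe : N = normalizerIn R P
  · subst hNe
    exact inK_res hg hPR hgi
  have hNR : N ≤ R := hNP.trans (normalizerIn_le P)
  have ih' : ∀ {M : Subgroup Ω} {u : Ω → Ω}, P ≤ M → M ≤ normalizerIn R P →
      Nat.card N < Nat.card M → Mor (gen K) M u → u '' (P : Set Ω) = P → InK K P u := by
    intro M u hPM hMP hltM hu hui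
    have : Nat.card M ≤ Nat.card R := Subgroup.card_le_of_le hu.le
    exact ih (Nat.card R - Nat.card M) (by omega) hPM hMP (by omega) hu hui rfl
  obtain ⟨L, hL, hLR⟩ := hg.exists_img (le_refl N)
  obtain ⟨g', hg', hgl, -, -⟩ := hg.exists_inv hL
  have hPL : P ≤ L := by
    intro y hy
    obtain ⟨x, hx, rfl⟩ := hgi.symm.subset hy
    exact hL.subset ⟨x, hPN hx, rfl⟩
  have hLP : L ≤ normalizerIn R P := by
    intro y hy
    obtain ⟨x, hx, rfl⟩ := hL.symm.subset hy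
    exact hg.map_normalizer hPN hgi hx (hNP hx).2
  have : Finite (normalizerIn R P) := finite_of_le (normalizerIn_le P)
  have hgrow : ∀ {B : Subgroup Ω}, B ≤ normalizerIn R P → B ≠ normalizerIn R P →
      Nat.card B < Nat.card (normalizerIn (normalizerIn R P) B : Subgroup Ω) := by
    intro B hB hne
    obtain ⟨y, hy, hyB⟩ := Fusion.Alperin.exists_normalizing_not_mem
      (hRp.to_le (normalizerIn_le P)) hB hne
    exact Fusion.Alperin.card_lt_of_le_of_mem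
      ((normalizerIn_le B).trans (normalizerIn_le P)) (le_normalizerIn hB) hy hyB
  have hLne : L ≠ normalizerIn R P := fun e => hNe
    (Subgroup.eq_of_le_of_card_ge hNP (by rw [← e, hg.card_img le_rfl hL]))
  set M₁ := normalizerIn (normalizerIn R P) N
  have hNM₁ : N ≤ M₁ := le_normalizerIn hNP
  have hM₁N : M₁ ≤ normalizerIn R N := fun y hy => ⟨hy.1.1, hy.2⟩
  set M₂ := normalizerIn (normalizerIn R P) L
  have hLM₂ : L ≤ M₂ := le_normalizerIn hLP
  have hM₂L : M₂ ≤ normalizerIn R L := fun y hy => ⟨hy.1.1, hy.2⟩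
  have hlt₁ := hgrow hNP hNe
  have hlt₂ := hgrow hLP hLne
  rw [hg.card_img le_rfl hL] at hlt₂
  obtain ⟨K', P₁, σ, hσ⟩ := Generated.exists_target hRp (hbig N hNR hlt) hPN
  obtain ⟨τ₁, hτ₁, hT₁⟩ := hσ.adjust hRp hPN hNM₁ hM₁N fun y hy => hy.1.2
  obtain ⟨τ₂, hτ₂, hT₂⟩ := (hT₁.comp_inv hPN hg' hL hgi hgl).adjust hRp hPL hLM₂ hM₂L
    fun y hy => hy.1.2
  have hK'R : K' ≤ R := hσ.rec'.1
  have hP₁K' : P₁ ≤ K' := fun y hy => by
    obtain ⟨x, hx, rfl⟩ := hT₁.imgQ.symm.subset hy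
    exact hT₁.img.subset ⟨x, hPN hx, rfl⟩
  have hP₁c : (gen K).IsConj P P₁ := (hT₁.mor.restrict hPN).isConj hT₁.imgQ
  have hP₁R := isConj_le_right hP₁c
  obtain ⟨ψ, hψ, hψi⟩ := recv_all K hRp hPne hP hbig hP₁c
  have hψmem : ∀ x ∈ P₁, ψ x ∈ P := fun x hx => hψi.subset ⟨x, hx, rfl⟩
  have hτ₁M : ∀ x ∈ M₁, τ₁ x ∈ normalizerIn R P₁ := fun x hx =>
    hτ₁.map_normalizer (hPN.trans hNM₁) hT₁.imgQ hx hx.1.2
  have hτ₂M : ∀ x ∈ M₂, τ₂ x ∈ normalizerIn R P₁ := fun x hx =>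
    hτ₂.map_normalizer (hPL.trans hLM₂) hT₂.imgQ hx hx.1.2
  have hu₁ : InK K P (ψ ∘ τ₁) := ih' (hPN.trans hNM₁) (fun y hy => hy.1) hlt₁
    (hτ₁.comp hψ hτ₁M) (by rw [Set.image_comp, hT₁.imgQ, hψi])
  have hu₂ : InK K P (ψ ∘ τ₂) := ih' (hPL.trans hLM₂) (fun y hy => hy.1) hlt₂
    (hτ₂.comp hψ hτ₂M) (by rw [Set.image_comp, hT₂.imgQ, hψi])
  obtain ⟨Δ, hΔ, hΔU⟩ := exists_delta K hψ hψi hK'R hP₁K'
  -- every element of the stabilizer lands in `A P` times restrictions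
  have hstab : ∀ c : stab (gen K) K' P₁, (Δ c : MulAut P) ∈ A P ⊔ res K P := by
    obtain ⟨U, hU⟩ := hσ.syl
    have : Finite K' := finite_of_le hK'R
    have := finite_mulAut K'
    set Kn := (A P).comap (((gen K).autGroup P).subtype.comp Δ) with hKn
    have : Kn.Normal := ⟨fun c hc d => by
      show (Δ (d * c * d⁻¹) : MulAut P) ∈ A P
      rw [map_mul, map_mul, map_inv]
      exact A_conj K htc (gen_aut_le_F K (Δ d).2) hc⟩
    have hUKn : (U : Subgroup (stab (gen K) K' P₁)) ≤ Kn := fun c hc => by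
      rw [hU] at hc
      exact K.induced_le P htc (hΔU c hc)
    have hcomb : Subgroup.normalizer ((U : Subgroup (stab (gen K) K' P₁)) :
        Set (stab (gen K) K' P₁)) ⊔ Kn = ⊤ := Sylow.normalizer_sup_eq_top' U hUKn
    intro c
    obtain ⟨n, hn, m, hm, rfl⟩ :=
      Subgroup.mem_sup_of_normal_right.1 (hcomb ▸ Subgroup.mem_top c)
    rw [map_mul]
    refine mul_mem ?_ (Subgroup.mem_sup_left hm)
    obtain ⟨fn, hfn, hfne, hfni⟩ := exists_mor_of_aut hK'R (n : (gen K).autGroup K')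
    set M := normalizerIn (normalizerIn R P₁) K'
    have hK'N : K' ≤ normalizerIn R P₁ := by
      intro y hy
      obtain ⟨x, hx, rfl⟩ := hT₁.img.symm.subset hy
      exact hT₁.mor.map_normalizer hPN hT₁.imgQ hx (hNP hx).2
    have hfnP : fn '' (P₁ : Set Ω) = P₁ := by
      ext y
      constructor
      · rintro ⟨x, hx, rfl⟩
        rw [show fn x = _ from hfne ⟨x, hP₁K' hx⟩]
        exact (n.2 _).2 hx
      · intro hy
        refine ⟨_, ((n⁻¹).2 ⟨y, hP₁K' hy⟩).2 hy, (hfne _).trans ?_⟩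
        exact congrArg Subtype.val
          (((n : (gen K).autGroup K') : MulAut K').apply_symm_apply ⟨y, hP₁K' hy⟩)
    obtain ⟨f, hf, hfe⟩ := hfn.exists_ext hfni hσ.rec' (le_normalizerIn hK'N)
      (fun y hy => ⟨hy.1.1, hy.2⟩) fun l hl => by
        let cl : stab (gen K) K' P₁ := ⟨⟨conjAut hl.2, autInducedBy_le_autGroup (gen K) hK'R
          (conjAut_mem_autInducedBy hl.2 hl.1.1)⟩, fun x => by
            show l * (x : Ω) * l⁻¹ ∈ P₁ ↔ (x : Ω) ∈ P₁
            exact ((Subgroup.mem_normalizer_iff.1 hl.1.2) x).symm⟩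
        have hclU : cl ∈ (U : Subgroup (stab (gen K) K' P₁)) :=
          hU ▸ conjAut_mem_autInducedBy hl.2 hl.1.1
        have h2 := (Subgroup.mem_normalizer_iff.1 hn cl).1 hclU
        rw [hU] at h2
        obtain ⟨t, ht, htx⟩ := mem_autInducedBy_iff.1 h2
        refine ⟨t, ht, fun x hx => ?_⟩
        have h3 := htx (((n : (gen K).autGroup K') : MulAut K') ⟨x, hx⟩)
        have hlx : l * x * l⁻¹ ∈ K' := conj_mem_of_normalizer hl.2 hx
        rw [show fn (l * x * l⁻¹) = _ from hfne ⟨_, hlx⟩, show fn x = _ from hfne ⟨x, hx⟩, ← h3]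
        show _ = (((((n : (gen K).autGroup K') : MulAut K') * (cl : (gen K).autGroup K') *
          ((n : (gen K).autGroup K') : MulAut K')⁻¹) (((n : (gen K).autGroup K') : MulAut K')
            ⟨x, hx⟩) : K') : Ω)
        rw [MulAut.mul_apply, MulAut.mul_apply, MulAut.inv_apply_self]
        rfl
    have hfP : f '' (P₁ : Set Ω) = P₁ := by
      conv_rhs => rw [← hfnP]
      exact Set.image_congr fun x hx => hfe x (hP₁K' hx)
    have hMP₁ : M ≤ normalizerIn R P₁ := fun y hy => hy.1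
    have hP₁M : P₁ ≤ M := hP₁K'.trans (le_normalizerIn hK'N)
    obtain ⟨W, hW, -⟩ := hψ.exists_img hMP₁
    obtain ⟨ψi, hψi', hψil, -, -⟩ := (hψ.restrict hMP₁).exists_inv hW
    have hψiM : ∀ y ∈ W, ψi y ∈ M := fun y hy => by
      obtain ⟨x, hx, rfl⟩ := hW.symm.subset hy
      rw [hψil x hx]; exact hx
    have hfM : ∀ x ∈ M, f x ∈ normalizerIn R P₁ := fun x hx =>
      hf.map_normalizer hP₁M hfP hx (hMP₁ hx).2
    have hW' : InK K P (ψ ∘ (f ∘ ψi)) := by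
      refine ih' (fun y hy => ?_) (fun y hy => ?_) ?_ ((hψi'.comp hf hψiM).comp hψ
        fun y hy => hfM _ (hψiM y hy)) ?_
      · obtain ⟨x, hx, rfl⟩ := hψi.symm.subset hy
        exact hW.subset ⟨x, hP₁M hx, rfl⟩
      · obtain ⟨x, hx, rfl⟩ := hW.symm.subset hy
        exact hψ.map_normalizer (le_normalizerIn hP₁R) hψi (hMP₁ hx) (hMP₁ hx).2
      · rw [hψ.card_img hMP₁ hW]
        have : Finite M := finite_of_le (hMP₁.trans (normalizerIn_le P₁))
        exact lt_of_lt_of_le hlt₁ (hτ₁.card_le le_rfl fun x hx =>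
          ⟨hτ₁M x hx, (hτ₁.map_normalizer hNM₁ hT₁.img hx hx.2).2⟩)
      · have e : ψi '' (P : Set Ω) = P₁ := by
          rw [← hψi]
          exact Generated.image_image_eq fun x hx => hψil x (hP₁M hx)
        rw [Set.image_comp, Set.image_comp, e, hfP, hψi]
    obtain ⟨k, hk, hke⟩ := hW'
    have e : k = (Δ n : MulAut P) := MulEquiv.ext fun y => Subtype.ext (by
      obtain ⟨x, hx, hxy⟩ := hψi.symm.subset y.2
      have hxP : ψ x ∈ P := hxy ▸ y.2
      rw [show y = ⟨ψ x, hxP⟩ from Subtype.ext hxy.symm, hke, hΔ n x hx (hP₁K' hx) hxP]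
      show ψ (f (ψi (ψ x))) = _
      rw [hψil x (hP₁M hx), hfe x (hP₁K' hx)]
      exact congrArg ψ (hfne ⟨x, hP₁K' hx⟩))
    exact e ▸ hk
  -- decomposition of `g`
  obtain ⟨τ₁i, hτ₁i, hτ₁l, -, hτ₁ii⟩ := hT₁.mor.exists_inv hT₁.img
  have hbmor : Mor (gen K) K' (τ₂ ∘ (g ∘ τ₁i)) := (hτ₁i.comp hg fun y hy =>
    hτ₁ii.subset ⟨y, hy, rfl⟩).comp hT₂.mor fun y hy =>
      hL.subset ⟨_, hτ₁ii.subset ⟨y, hy, rfl⟩, rfl⟩
  have hbK : (τ₂ ∘ (g ∘ τ₁i)) '' (K' : Set Ω) = K' := by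
    rw [Set.image_comp, Set.image_comp, hτ₁ii, hL, hT₂.img]
  obtain ⟨b, hbe⟩ := exists_aut_of_mor hbmor hbK
  have hbP : (τ₂ ∘ (g ∘ τ₁i)) '' (P₁ : Set Ω) = P₁ := by
    have e : τ₁i '' (P₁ : Set Ω) = P := by
      rw [← hT₁.imgQ]
      exact Generated.image_image_eq fun x hx => hτ₁l x (hPN hx)
    rw [Set.image_comp, Set.image_comp, e, hgi, hT₂.imgQ]
  have hbs : b ∈ stab (gen K) K' P₁ := fun x => by
    rw [hbe, ← SetLike.mem_coe, ← hbP, hbmor.injOn.mem_image_iff (fun _ h => hP₁K' h) x.2]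
    rfl
  obtain ⟨k₁, hk₁, hk₁e⟩ := hu₁
  obtain ⟨k₂, hk₂, hk₂e⟩ := hu₂
  refine ⟨k₂⁻¹ * (Δ ⟨b, hbs⟩ : MulAut P) * k₁, mul_mem (mul_mem (inv_mem hk₂) (hstab _)) hk₁,
    fun x => ?_⟩
  have hgx : g x ∈ P := hgi.subset ⟨x, x.2, rfl⟩
  have hτx : τ₁ x ∈ P₁ := hT₁.imgQ.subset ⟨x, x.2, rfl⟩
  have h1 : (Δ ⟨b, hbs⟩ : MulAut P) (k₁ x) = k₂ ⟨g x, hgx⟩ := Subtype.ext (by
    rw [show k₁ x = ⟨ψ (τ₁ x), hψmem _ hτx⟩ from Subtype.ext (hk₁e x), hk₂e,
      hΔ _ (τ₁ x) hτx (hP₁K' hτx) (hψmem _ hτx)]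
    show ψ _ = ψ (τ₂ (g x))
    refine congrArg ψ ((hbe _).trans ?_)
    show τ₂ (g (τ₁i (τ₁ x))) = _
    rw [hτ₁l x (hPN x.2)])
  show ((k₂⁻¹ ((Δ ⟨b, hbs⟩ : MulAut P) (k₁ x)) : P) : Ω) = g x
  rw [h1, MulAut.inv_apply_self]

include hRp in
/-- The automizer of a fully normalized `R`-centric subgroup. -/
theorem inK_of_mor {P : Subgroup Ω} (hP : (gen K).IsFullyNormalized P) (htc : TCentric F R P)
    (hPne : P ≠ R) (hbig : ∀ M, M ≤ R → Nat.card P < Nat.card M → Sat (gen K) p M)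
    {f : Ω → Ω} (hf : Mor (gen K) P f) (hfi : f '' (P : Set Ω) = P) : InK K P f := by
  have hPR := hP.1
  have hrecv : ∀ {Q}, (gen K).IsConj P Q → Recv (gen K) Q P := fun h =>
    recv_all K hRp hPne hP hbig h
  let C : Subgroup Ω → Subgroup Ω → (Ω → Ω) → Prop := fun Q Q' f => ∀ r r',
    Mor (gen K) (normalizerIn R Q) r → r '' (Q : Set Ω) = P →
      Mor (gen K) (normalizerIn R Q') r' → r' '' (Q' : Set Ω) = P →
        ∃ g, InK K P g ∧ ∀ x ∈ Q, g (r x) = r' (f x)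
  have hlink : ∀ {N Q Q' : Subgroup Ω} {f : Ω → Ω}, (gen K).IsConj P Q → Q ≤ N →
      N ≤ normalizerIn R Q → Nat.card Q < Nat.card N → Mor (gen K) N f →
        f '' (Q : Set Ω) = Q' → C Q Q' f := by
    intro N Q Q' f hQ hQN hNQ hlt hf hfi r r' hr hri hr' hr'i
    obtain ⟨N', hN', -⟩ := hr.exists_img hNQ
    obtain ⟨ri, hri', hril, -, hrii⟩ := (hr.restrict hNQ).exists_inv hN'
    have hriN : ∀ y ∈ N', ri y ∈ N := fun y hy => hrii.subset ⟨y, hy, rfl⟩
    refine ⟨r' ∘ (f ∘ ri), inK_of_link K hRp hP htc hPne hbig (N := N') ?_ ?_ ?_ ?_ ?_,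
      fun x hx => ?_⟩
    · intro y hy
      obtain ⟨x, hx, rfl⟩ := hri.symm.subset hy
      exact hN'.subset ⟨x, hQN hx, rfl⟩
    · intro y hy
      obtain ⟨x, hx, rfl⟩ := hN'.symm.subset hy
      exact hr.map_normalizer (le_normalizerIn (isConj_le_right hQ)) hri (hNQ hx) (hNQ hx).2
    · rw [isConj_card hQ, hr.card_img hNQ hN']
      exact hlt
    · exact (hri'.comp hf hriN).comp hr' fun y hy =>
        hf.map_normalizer hQN hfi (hriN y hy) (hNQ (hriN y hy)).2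
    · have e : ri '' (P : Set Ω) = Q := by
        rw [← hri]
        exact Generated.image_image_eq fun x hx => hril x (hQN hx)
      rw [Set.image_comp, Set.image_comp, e, hfi, hr'i]
    · show r' (f (ri (r x))) = r' (f x)
      rw [hril x (hQN hx)]
  have hC : C P P f := by
    refine class_induction K hRp hPne C ?_ ?_ ?_ hlink ?_ (isConj_refl (gen K) hPR) hf hfi
    · intro Q Q' f g he h r r' hr hri hr' hr'i
      obtain ⟨u, hu, hue⟩ := h r r' hr hri hr' hr'i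
      exact ⟨u, hu, fun x hx => by rw [hue x hx, he x hx]⟩
    · intro Q Q' Q'' f g hQ hf hfi _ _ h1 h2 r r'' hr hri hr'' hr''i
      obtain ⟨r', hr', hr'i⟩ := hrecv (isConj_trans hQ (hf.isConj hfi))
      obtain ⟨u, hu, hue⟩ := h1 r r' hr hri hr' hr'i
      obtain ⟨v, hv, hve⟩ := h2 r' r'' hr' hr'i hr'' hr''i
      refine ⟨v ∘ u, hu.comp hv, fun x hx => ?_⟩
      show v (u (r x)) = r'' (g (f x))
      rw [hue x hx, hve _ (hfi.subset ⟨x, hx, rfl⟩)]
    · intro Q Q' f g hQ hf hfi _ hl h r' r hr' hr'i hr hri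
      obtain ⟨u, hu, hue⟩ := h r r' hr hri hr' hr'i
      obtain ⟨k, hk, hke⟩ := hu
      classical
      let v : Ω → Ω := fun y => if h : y ∈ P then ((k⁻¹ ⟨y, h⟩ : P) : Ω) else y
      refine ⟨v, InK.inv ⟨k, hk, hke⟩ fun x hx => ?_, fun y hy => ?_⟩
      · have hm : u x ∈ P := InK.mapsTo ⟨k, hk, hke⟩ hx
        show dite _ _ _ = x
        rw [dif_pos hm, show (⟨u x, hm⟩ : P) = k ⟨x, hx⟩ from Subtype.ext (hke ⟨x, hx⟩).symm,
          MulAut.inv_apply_self]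
      · obtain ⟨x, hx, rfl⟩ := hfi.symm.subset hy
        have hm : r' (f x) ∈ P := hr'i.subset ⟨_, hy, rfl⟩
        show dite _ _ _ = r (g (f x))
        have hrx : r x ∈ P := hri.subset ⟨x, hx, rfl⟩
        rw [dif_pos hm, hl x hx, show (⟨r' (f x), hm⟩ : P) = k ⟨r x, hrx⟩ from
          Subtype.ext ((hue x hx).symm.trans (hke ⟨r x, hrx⟩).symm), MulAut.inv_apply_self]
    · intro Q a f hQ hQtc ha hfa r r' hr hri hr' hr'i
      have hQR := hQtc.1
      obtain ⟨g, hg, hge⟩ : ∃ g, InK K P g ∧ ∀ x ∈ Q, g (r x) = r' x := by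
        have hne : Q ≠ R := fun e => hPne (Subgroup.eq_of_le_of_card_ge hPR
          (by rw [isConj_card hQ, e]))
        obtain ⟨y, hy, hyQ⟩ := Fusion.Alperin.exists_normalizing_not_mem hRp hQR hne
        exact hlink hQ (le_normalizerIn hQR) le_rfl (Fusion.Alperin.card_lt_of_le_of_mem
          (normalizerIn_le Q) (le_normalizerIn hQR) hy hyQ) (mor_id (normalizerIn_le Q))
          (Set.image_id _) r r' hr hri hr' hr'i
      obtain ⟨φ, hφ, hφe⟩ := Comp89.mor_mono (gen_sub K) (hr.restrict (le_normalizerIn hQR))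
      have hrr : φ.range = P := SetLike.coe_injective (by
        rw [← hri]
        ext y
        constructor
        · rintro ⟨x, rfl⟩; exact ⟨x, x.2, (hφe x).symm⟩
        · rintro ⟨x, hx, rfl⟩; exact ⟨⟨x, hx⟩, hφe _⟩)
      classical
      let h₀ : Ω → Ω := fun y => if h : y ∈ P then
        (((MulAut.congr (isoOf hφ hrr) a) ⟨y, h⟩ : P) : Ω) else y
      refine ⟨g ∘ h₀, (inK_of_A (K.conj hQtc hφ hrr a ha) fun y => dif_pos y.2).comp hg,
        fun x hx => ?_⟩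
      have hax : f x ∈ Q := by rw [show f x = _ from hfa ⟨x, hx⟩]; exact (a _).2
      have hrx : r x ∈ P := hri.subset ⟨x, hx, rfl⟩
      show g (h₀ (r x)) = r' (f x)
      have e : h₀ (r x) = r (f x) := by
        show dite _ _ _ = _
        rw [dif_pos hrx, show (⟨r x, hrx⟩ : P) = isoOf hφ hrr ⟨x, hx⟩ from
          Subtype.ext (hφe ⟨x, hx⟩).symm]
        show ((isoOf hφ hrr (a ((isoOf hφ hrr).symm (isoOf hφ hrr ⟨x, hx⟩))) : P) : Ω) = _
        rw [MulEquiv.symm_apply_apply, show f x = _ from hfa ⟨x, hx⟩]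
        exact hφe _
      rw [e, hge _ hax]
  obtain ⟨g, hg, hge⟩ := hC id id (mor_id (normalizerIn_le P)) (Set.image_id _)
    (mor_id (normalizerIn_le P)) (Set.image_id _)
  exact hg.congr fun x hx => (hge x hx).symm

end CfsgLib.Meet.Gen
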