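import Cfsg.Agent.Fus.Meet.Axioms
import Cfsg.Agent.Fus.Comp89.Mono
import Cfsg.Agent.Fus.NormalOverSylow

/-!
The system generated by a normal map: invariance under `Aut_F(R)`, the Frattini factorisation, its
centric subgroups and the sizes of normalizers.
-/

set_option autoImplicit false

namespace CfsgLib.Meet.Gen

open Cfsg Cfsg.FusionSystem CfsgLib.Fus CfsgLib.NormalCent CfsgLib.Fusion.Alperin
open CfsgLib.Fus.PPrimeExist (onT least least_le autGroup_onT invCore)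

variable {Ω : Type*} [Group Ω] {S R : Subgroup Ω} {F : Cfsg.FusionSystem S} {p : ℕ}
  {A : ∀ P : Subgroup Ω, Subgroup (MulAut P)}

theorem tc_mono {P Q : Subgroup Ω} (h : TCentric F R P) (hPQ : P ≤ Q) (hQR : Q ≤ R) :
    TCentric F R Q := by
  refine ⟨hQR, fun f hf c hc hcomm => ?_⟩
  obtain ⟨x, hx, hxc⟩ := h.2 f (hf.restrict hPQ) c hc fun x hx => hcomm x (hPQ hx)
  exact ⟨x, hPQ hx, hxc⟩

theorem tc_image (hT : F.StronglyClosed R) {P Q : Subgroup Ω} (h : TCentric F R P) {g : Ω → Ω}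
    (hg : Mor F P g) (hQ : g '' (P : Set Ω) = Q) : TCentric F R Q := by
  have hgm : ∀ x ∈ P, g x ∈ Q := fun x hx => hQ.subset ⟨x, hx, rfl⟩
  refine ⟨fun y hy => ?_, fun f hf c hc hcomm => ?_⟩
  · obtain ⟨x, hx, rfl⟩ := hQ.symm.subset hy
    exact Comp89.mor_mem_closed hT hg hx (h.1 hx)
  · obtain ⟨x, hx, hxc⟩ := h.2 (f ∘ g) (hg.comp hf hgm) c hc fun x hx => hcomm _ (hgm x hx)
    exact ⟨g x, hgm x hx, hxc⟩

theorem tc_of_conj (hT : F.StronglyClosed R) {P Q : Subgroup Ω} (h : TCentric F R P)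
    (hc : F.IsConj P Q) : TCentric F R Q := by
  obtain ⟨g, hg, hgi⟩ := exists_mor_of_isConj hc
  exact tc_image hT h hg hgi

theorem tc_centralizer {Q : Subgroup Ω} (h : TCentric F R Q) (hRS : R ≤ S) :
    centralizerIn R Q ≤ Q := tcentric_id h hRS

theorem recv_fn [Finite S] [Fact p.Prime] (hS : IsPGroup p S) (hF : F.IsSaturated p)
    {P Q : Subgroup Ω} (hQ : F.IsFullyNormalized Q) (h : F.IsConj P Q) :
    ∃ g, Mor F (normalizerIn S P) g ∧ g '' (P : Set Ω) = Q := by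
  obtain ⟨φ, hφ, hr, ψ, hψ, hψe⟩ := exists_normalizer_map_fn hS hF hQ h
  obtain ⟨g, hg, hge⟩ := exists_mor hψ
  have hPN : P ≤ normalizerIn S P := le_normalizerIn (hom_le F hφ)
  refine ⟨g, hg, ?_⟩
  rw [← hr]
  ext y
  constructor
  · rintro ⟨x, hx, rfl⟩
    exact ⟨⟨x, hx⟩, ((hge ⟨x, hPN hx⟩).trans (hψe ⟨x, hx⟩ (hPN hx))).symm⟩
  · rintro ⟨x, rfl⟩
    exact ⟨x, x.2, (hge ⟨x, hPN x.2⟩).trans (hψe x (hPN x.2))⟩

theorem tc_of_fn [Finite S] [Fact p.Prime] (hS : IsPGroup p S) (hF : F.IsSaturated p)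
    (hT : F.StronglyClosed R) {Q : Subgroup Ω} (hQR : Q ≤ R) (hQ : F.IsFullyNormalized Q)
    (h : centralizerIn R Q ≤ Q) : TCentric F R Q := by
  refine ⟨hQR, fun f hf c hc hcomm => ?_⟩
  obtain ⟨Q', hQ', hQ'S⟩ := hf.exists_img le_rfl
  obtain ⟨g, hg, hgQ⟩ := recv_fn hS hF hQ (isConj_symm (hf.isConj hQ'))
  have hN : Q' ≤ normalizerIn S Q' := le_normalizerIn hQ'S
  have hcC : c ∈ centralizerIn S Q' := ⟨hT.1 hc, fun y hy => by
    obtain ⟨x, hx, rfl⟩ := hQ'.symm.subset hy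
    exact hcomm x hx⟩
  have hcN := centralizerIn_le_normalizerIn Q' hcC
  have hgc : g c ∈ Q := h ⟨Comp89.mor_mem_closed hT hg hcN hc, fun y hy => by
    obtain ⟨z, hz, rfl⟩ := hgQ.symm.subset hy
    rw [← hg.map_mul (hN hz) hcN, ← hg.map_mul hcN (hN hz), hcC.2 z hz]⟩
  obtain ⟨z, hz, hze⟩ := hgQ.symm.subset hgc
  obtain rfl := hg.injOn (hN hz) hcN hze
  exact hQ'.symm.subset hz

variable (K : NormalMap F p R A)

/-- The system generated by the groups `A P`. -/
def gen : Cfsg.FusionSystem R :=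
  least (fun D => ∀ P, TCentric F R P → A P ≤ D.autGroup P) (onT F K.closed) fun P hP _ ha =>
    (mem_autGroup_iff _ hP.1).2
      ⟨hP.1, (mem_autGroup_iff F (hP.1.trans K.closed.1)).1 (K.le_aut P hP ha)⟩

theorem gen_onT : (gen K).IsSubsystemOf (onT F K.closed) :=
  fun _ _ h => h (onT F K.closed) fun P hP _ ha => (mem_autGroup_iff _ hP.1).2
    ⟨hP.1, (mem_autGroup_iff F (hP.1.trans K.closed.1)).1 (K.le_aut P hP ha)⟩

theorem gen_sub : (gen K).IsSubsystemOf F := fun P _ h => (gen_onT K P h).2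

theorem gen_gen {P : Subgroup Ω} (hP : TCentric F R P) : A P ≤ (gen K).autGroup P :=
  fun _ ha => PPrimeExist.le_autGroup_least hP.1 fun _ hD => hD P hP ha

/-- The generated system lies in every system whose automizers contain the groups `A P`. -/
theorem gen_le {D : Cfsg.FusionSystem R} (hD : ∀ P, TCentric F R P → A P ≤ D.autGroup P) :
    (gen K).IsSubsystemOf D := least_le hD

theorem eInv_gen {P : Subgroup Ω} {φ : P →* Ω} (hφ : φ ∈ (gen K).Hom P) :
    EInv (onT F K.closed) (gen K) P φ := by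
  refine gen_le K (D := invCore (onT F K.closed) (gen K)) (fun Q hQ α hα => ?_) P hφ
  refine (mem_autGroup_iff _ hQ.1).2
    ⟨⟨hQ.1, (mem_autGroup_iff F (hQ.1.trans K.closed.1)).1 (K.le_aut Q hQ hα)⟩, fun β hβ => ?_⟩
  have hb : autHom β hQ.1 ∈ F.Hom Q := (autHom_mem hβ hQ.1).2
  have hbr := autHom_range β hQ.1
  have hc : TCentric F R (autImg β Q) := tc_of_conj K.closed hQ ⟨_, hb, hbr⟩
  have key := K.conj hQ hb hbr α hα
  refine ⟨_, (mem_autGroup_iff _ (autImg_le β Q)).1 (gen_gen K hc key), fun x hx => ?_⟩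
  show autHom β hQ.1 (α ((isoOf hb hbr).symm ⟨autFun β x, hx⟩)) = _
  have e : (⟨autFun β x, hx⟩ : autImg β Q) = isoOf hb hbr x :=
    Subtype.ext (autHom_apply β hQ.1 x).symm
  rw [e, MulEquiv.symm_apply_apply, autHom_apply]
  rfl

variable [Finite S] [Fact p.Prime] (hS : IsPGroup p S)

include hS

omit [Fact p.Prime] hS in
theorem step_extend {Q : Subgroup Ω} (hQR : Q ≤ R) (hrec : F.IsReceptive Q) {g : Ω}
    {α : MulAut Q} (hα : α ∈ F.autGroup Q) (hgE : g ∈ extender S Q (Q.subtype.comp α.toMonoidHom))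
    (hgR : g ∈ R) (hgQ : g ∉ Q)
    (big : ∀ {M : Subgroup Ω} {ψ : M →* Ω}, M ≤ R → ψ ∈ F.Hom M → Nat.card Q < Nat.card M →
      EFac (onT F K.closed) (gen K) M ψ) :
    EFac (onT F K.closed) (gen K) Q (Q.subtype.comp α.toMonoidHom) := by
  have hQS := hQR.trans K.closed.1
  have hαhom := (mem_autGroup_iff F hQS).1 hα
  obtain ⟨ψ, hψ, hψe⟩ := hrec.2 Q _ hαhom (range_subtype_comp _)
  have hQM : Q ≤ extender S Q (Q.subtype.comp α.toMonoidHom) ⊓ R :=
    le_inf (le_extender F hαhom) hQR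
  have hlt := card_lt_of_le_of_mem (inf_le_right.trans K.closed.1) hQM ⟨hgE, hgR⟩ hgQ
  have h1 := (big inf_le_right (restrict_mem F hψ inf_le_left) hlt).restrict hQM
  have e : (ψ.comp (Subgroup.inclusion inf_le_left)).comp (Subgroup.inclusion hQM) =
      Q.subtype.comp α.toMonoidHom := MonoidHom.ext fun x => hψe x x.2 _
  exact e ▸ h1

/-- Every map of `F` between subgroups of `R` is an automorphism of `R` after a generated map. -/
theorem eFac_all {P : Subgroup Ω} (hPR : P ≤ R) {φ : P →* Ω} (hφ : φ ∈ F.Hom P) :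
    EFac (onT F K.closed) (gen K) P φ := by
  have hT := K.closed
  have hRS := hT.1
  have hF := K.saturated
  have : Finite R := finite_of_le hRS
  have hRp : IsPGroup p R := hS.to_le hRS
  have hEF := gen_onT K
  induction hn : Nat.card R - Nat.card P using Nat.strong_induction_on generalizing P with
  | _ n ih =>
  have hPS := hom_le F hφ
  have hidR : EFac (onT F K.closed) (gen K) R R.subtype :=
    ⟨1, one_mem _, R.subtype, eInv_gen K (subtype_mem _ le_rfl), fun x => (autFun_one x.2).symm⟩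
  by_cases htop : P = R
  · subst htop
    have hr : φ.range = P := by
      refine Subgroup.eq_of_le_of_card_ge ?_ (isConj_card (isConj_of_hom F hφ)).le
      rintro _ ⟨x, rfl⟩
      exact hT.2 P le_rfl φ hφ x
    refine ⟨isoOf hφ hr, (autGroup_onT hT).2 (isoOf_mem_autGroup hφ hr), P.subtype,
      eInv_gen K (subtype_mem _ le_rfl), fun x => ?_⟩
    show φ x = autFun _ (x : Ω)
    rw [autFun_apply _ x.2]
    rfl
  have big : ∀ {M : Subgroup Ω} {ψ : M →* Ω}, M ≤ R → ψ ∈ F.Hom M →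
      Nat.card P < Nat.card M → EFac (onT F K.closed) (gen K) M ψ := by
    intro M ψ hM hψ hlt
    have : Nat.card M ≤ Nat.card R := Subgroup.card_le_of_le hM
    exact ih (Nat.card R - Nat.card M) (by omega) hM hψ rfl
  obtain ⟨Q, hPQ, hQ⟩ := exists_fullyNormalized F hPS
  have hconjR : ∀ {M : Subgroup Ω}, F.IsConj P M → M ≤ R := by
    rintro M ⟨ψ, hψ, rfl⟩ _ ⟨x, rfl⟩
    exact hT.2 P hPR ψ hψ x
  have move : ∀ {M : Subgroup Ω}, F.IsConj P M → F.IsConj M Q →
      ∃ χ ∈ F.Hom M, χ.range = Q ∧ EFac (onT F K.closed) (gen K) M χ := by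
    intro M hPM hMQ
    have hM := hconjR hPM
    obtain ⟨χ, hχ, hχr, ψ, hψ, hψe⟩ := exists_normalizer_map_fn hS hF hQ hMQ
    have hne : M ≠ R := fun hc =>
      htop (Subgroup.eq_of_le_of_card_ge hPR (by rw [isConj_card hPM, hc]))
    obtain ⟨g, hg, hgM⟩ := exists_normalizing_not_mem hRp hM hne
    have hle : normalizerIn R M ≤ normalizerIn S M := fun y hy => ⟨hRS hy.1, hy.2⟩
    have hlt := card_lt_of_le_of_mem (normalizerIn_le M) (le_normalizerIn hM) hg hgM
    have h1 := (big (normalizerIn_le M) (restrict_mem F hψ hle)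
      (isConj_card hPM ▸ hlt)).restrict (le_normalizerIn hM)
    have e : (ψ.comp (Subgroup.inclusion hle)).comp (Subgroup.inclusion (le_normalizerIn hM)) = χ :=
      MonoidHom.ext fun x => hψe x _
    exact ⟨χ, hχ, hχr, e ▸ h1⟩
  have hQR : Q ≤ R := hconjR hPQ
  have hQS : Q ≤ S := hQ.1
  have hQne : Q ≠ R := fun hc =>
    htop (Subgroup.eq_of_le_of_card_ge hPR (by rw [isConj_card hPQ, hc]))
  have : Finite Q := finite_of_le hQS
  have : Finite (MulAut Q) := finite_mulAut Q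
  let D : Subgroup (F.autGroup Q) :=
    { carrier := {α | EFac (onT F K.closed) (gen K) Q (Q.subtype.comp (α : MulAut Q).toMonoidHom)}
      one_mem' := hidR.restrict hQR
      mul_mem' := fun {a b} ha hb => EFac.comp hEF hb ha fun x => ((b : MulAut Q) x).2
      inv_mem' := fun {a} ha => by
        refine EFac.inv hEF ha ⟨hQR, (mem_autGroup_iff F hQS).1 (a⁻¹).2⟩ (range_subtype_comp _)
          fun x h => ?_
        show (((a : MulAut Q)⁻¹ ((a : MulAut Q) x) : Q) : Ω) = x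
        rw [MulAut.inv_apply, MulEquiv.symm_apply_apply] }
  obtain ⟨⟨-, U, hU⟩, -, hrec⟩ := fullyNormalized_props hS hF hQ
  have hrec' := (fullyNormalized_props hS hF hQ).2
  have big' : ∀ {M : Subgroup Ω} {ψ : M →* Ω}, M ≤ R → ψ ∈ F.Hom M →
      Nat.card Q < Nat.card M → EFac (onT F K.closed) (gen K) M ψ :=
    fun hM hψ hlt => big hM hψ (isConj_card hPQ ▸ hlt)
  have hD : D = ⊤ := by
    by_cases htc : TCentric F R Q
    · set M := (A Q).subgroupOf (F.autGroup Q) with hMdef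
      have : M.Normal := by
        refine ⟨fun m hm α => ?_⟩
        have hα := (mem_autGroup_iff F hQS).1 α.2
        have h1 := K.conj htc hα (range_subtype_comp _) (m : MulAut Q) hm
        have e : MulAut.congr (isoOf hα (range_subtype_comp _)) (m : MulAut Q) =
            (α : MulAut Q) * m * (α : MulAut Q)⁻¹ := by rw [congr_subtype_comp hα]
        rwa [e] at h1
      have hMD : M ≤ D := fun α hα =>
        ⟨1, one_mem _, _, eInv_gen K ((mem_autGroup_iff _ hQR).1 (gen_gen K htc hα)),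
          fun x => (autFun_one (hQR ((α : MulAut Q) x).2)).symm⟩
      obtain ⟨V, hV⟩ := exists_sylow_inter_normal U M
      have hVmap : (V : Subgroup M).map M.subtype = (U : Subgroup (F.autGroup Q)) ⊓ M := by
        rw [hV, Subgroup.map_subgroupOf_eq_of_le inf_le_right]
      have hnorm : Subgroup.normalizer
          (((V : Subgroup M).map M.subtype : Subgroup (F.autGroup Q)) : Set (F.autGroup Q)) ≤ D := by
        intro α hα
        rw [hVmap] at hα
        obtain ⟨g, hg, hgQ⟩ := exists_normalizing_not_mem hRp hQR hQne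
        have hgA : (⟨conjAut hg.2, autInducedBy_le_autGroup F hQS
            (conjAut_mem_autInducedBy hg.2 (hRS hg.1))⟩ : F.autGroup Q) ∈
              (U : Subgroup (F.autGroup Q)) ⊓ M :=
          ⟨hU ▸ conjAut_mem_autInducedBy hg.2 (hRS hg.1),
            K.induced_le Q htc (conjAut_mem_autInducedBy hg.2 hg.1)⟩
        have h2 := ((Subgroup.mem_normalizer_iff.1 hα _).1 hgA).1
        rw [hU] at h2
        have hαhom := (mem_autGroup_iff F hQS).1 α.2
        have hgE := mem_extender_of_congr hαhom (range_subtype_comp _) (hRS hg.1) hg.2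
          (by rw [congr_subtype_comp hαhom]; exact h2)
        exact step_extend K hQR hrec' α.2 hgE hg.1 hgQ big'
      exact top_unique ((Sylow.normalizer_sup_eq_top V).ge.trans (sup_le hnorm hMD))
    · refine top_unique fun α _ => ?_
      obtain ⟨c, hc, hcQ⟩ := SetLike.not_le_iff_exists.1
        fun h => htc (tc_of_fn hS hF hT hQR hQ h)
      exact step_extend K hQR hrec' α.2 (centralizerIn_le_extender ⟨hRS hc.1, hc.2⟩) hc.1 hcQ big'
  obtain ⟨χ, hχ, hχr, hχC⟩ := move (isConj_refl F hPS) hPQ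
  obtain ⟨χ', hχ', hχ'r, hχ'C⟩ := move (isConj_of_hom F hφ)
    (isConj_trans (isConj_symm (isConj_of_hom F hφ)) hPQ)
  obtain ⟨ξ, hξ, -, hξl, -⟩ := Fus.exists_inv F hχ hχr
  obtain ⟨ξ', hξ', -, hξ'l, -⟩ := Fus.exists_inv F hχ' hχ'r
  have hm1 : ∀ q : Q, ξ q ∈ P := fun q => by
    obtain ⟨x, hx⟩ : (q : Ω) ∈ χ.range := hχr.symm ▸ q.2
    have : ξ q = x := by
      rw [← hξl x (hx ▸ q.2)]; congr 1; exact Subtype.ext hx.symm
    rw [this]; exact x.2
  have h1 : ∀ x : P, φ x ∈ φ.range := fun x => ⟨x, rfl⟩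
  let β : Q →* Ω := χ'.comp ((φ.codRestrict φ.range h1).comp (ξ.codRestrict P hm1))
  have hβ : β ∈ F.Hom Q :=
    hom_of_comp F (F.comp_mem hξ hφ hm1) hχ' (fun q => ⟨_, rfl⟩) fun q => rfl
  have hβr : β.range = Q := by
    refine Subgroup.eq_of_le_of_card_ge ?_ (isConj_card (isConj_of_hom F hβ)).le
    rintro _ ⟨q, rfl⟩
    exact hχ'r.le ⟨_, rfl⟩
  have hβC : EFac (onT F K.closed) (gen K) Q (Q.subtype.comp (isoOf hβ hβr).toMonoidHom) := by
    have : (⟨_, isoOf_mem_autGroup hβ hβr⟩ : F.autGroup Q) ∈ D := hD ▸ Subgroup.mem_top _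
    exact this
  have h3 := EFac.comp hEF hχC hβC fun x => hχr.le ⟨x, rfl⟩
  have h4 := EFac.comp hEF h3 (EFac.inv hEF hχ'C ⟨hQR, hξ'⟩ hχ'r hξ'l) fun x =>
    (isoOf hβ hβr ⟨χ x, hχr.le ⟨x, rfl⟩⟩).2
  convert h4 using 1
  refine MonoidHom.ext fun x => ?_
  have hx : χ x ∈ Q := hχr.le ⟨x, rfl⟩
  have e : ξ ⟨χ x, hx⟩ = (x : Ω) := hξl x hx
  show φ x = ξ' ⟨χ' ⟨φ ⟨ξ ⟨χ x, hx⟩, _⟩, _⟩, _⟩
  exact (congrArg φ (Subtype.ext e.symm)).trans (hξ'l ⟨_, _, rfl⟩ _).symm

/-- A map of `F` onto `Q` is `a` after a generated map: the preimage `autImg a⁻¹ Q`. -/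
theorem exists_gen_conj {P Q : Subgroup Ω} (hPR : P ≤ R) (h : F.IsConj P Q) :
    ∃ a ∈ F.autGroup R, (gen K).IsConj P (autImg a⁻¹ Q) ∧ Q ≤ R := by
  obtain ⟨φ, hφ, rfl⟩ := h
  obtain ⟨a, ha, φ₀, hφ₀, he⟩ := eFac_all K hS hPR hφ
  have hm : ∀ x : P, φ₀ x ∈ R := fun x => K.closed.2 P hPR φ₀ hφ₀.1.2 x
  have hle : φ.range ≤ R := by rintro _ ⟨x, rfl⟩; exact K.closed.2 P hPR φ hφ x
  refine ⟨a, (autGroup_onT K.closed).1 ha, ⟨φ₀, hφ₀.mem_E, ?_⟩, hle⟩
  ext y
  rw [mem_autImg hle]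
  constructor
  · rintro ⟨x, rfl⟩
    exact ⟨φ x, ⟨x, rfl⟩, by rw [he, autFun_inv_apply a (hm x)]⟩
  · rintro ⟨_, ⟨x, rfl⟩, rfl⟩
    exact ⟨x, by rw [he, autFun_inv_apply a (hm x)]⟩

omit [Finite S] [Fact p.Prime] hS in
theorem mor_autR {a : MulAut R} (ha : a ∈ F.autGroup R) {M : Subgroup Ω} (hT : F.StronglyClosed R)
    (hM : M ≤ R) : Mor F M (autFun a) :=
  ⟨_, restrict_mem F ((mem_autGroup_iff F hT.1).1 ha) hM,
    fun x => (autFun_apply a (hM x.2)).symm⟩

/-- A subgroup centric in the generated system is `R`-centric. -/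
theorem tc_of_centric {P : Subgroup Ω} (hP : (gen K).IsCentric P) : TCentric F R P := by
  have hF := K.saturated
  obtain ⟨Q, hPQ, hQ⟩ := exists_fullyNormalized F (hP.1.trans K.closed.1)
  obtain ⟨a, ha, hconj, hQR⟩ := exists_gen_conj K hS hP.1 hPQ
  refine tc_of_conj K.closed (tc_of_fn hS hF K.closed hQR hQ fun c hc => ?_) (isConj_symm hPQ)
  have h1 : autFun a⁻¹ c ∈ centralizerIn R (autImg a⁻¹ Q) := by
    refine ⟨autFun_mem _ hc.1, fun y hy => ?_⟩
    obtain ⟨q, hq, rfl⟩ := (mem_autImg hQR).1 hy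
    rw [← autFun_map_mul _ (hQR hq) hc.1, ← autFun_map_mul _ hc.1 (hQR hq), hc.2 q hq]
  obtain ⟨q, hq, hqc⟩ := (mem_autImg hQR).1 (hP.2 _ hconj h1)
  have := congrArg (autFun a) hqc
  rw [autFun_apply_inv a (hQR hq), autFun_apply_inv a hc.1] at this
  exact this.symm ▸ hq

/-- A subgroup fully normalized in the generated system is received onto the whole normalizer. -/
theorem exists_fn_map {P : Subgroup Ω} (hP : (gen K).IsFullyNormalized P) :
    ∃ Q f, F.IsFullyNormalized Q ∧ Q ≤ R ∧ Mor F (normalizerIn S P) f ∧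
      f '' (P : Set Ω) = Q ∧ f '' (normalizerIn R P : Set Ω) = normalizerIn R Q := by
  have hRS := K.closed.1
  have : Finite R := finite_of_le hRS
  have hPS := hP.1.trans hRS
  obtain ⟨Q, hPQ, hQ⟩ := exists_fullyNormalized F hPS
  obtain ⟨f, hf, hfQ⟩ := recv_fn hS K.saturated hQ hPQ
  obtain ⟨a, ha, hconj, hQR⟩ := exists_gen_conj K hS hP.1 hPQ
  have hle : normalizerIn R P ≤ normalizerIn S P := fun y hy => ⟨hRS hy.1, hy.2⟩
  obtain ⟨M, hM, -⟩ := hf.exists_img hle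
  refine ⟨Q, f, hQ, hQR, hf, hfQ, ?_⟩
  rw [hM]
  congr 1
  have : Finite (normalizerIn R Q) := finite_of_le (normalizerIn_le Q)
  refine Subgroup.eq_of_le_of_card_ge ?_ ?_
  · intro y hy
    obtain ⟨x, hx, rfl⟩ := hM.symm.subset hy
    exact ⟨Comp89.mor_mem_closed K.closed hf (hle hx) hx.1,
      (hf.map_normalizer (le_normalizerIn hPS) hfQ (hle hx) hx.2).2⟩
  · rw [hf.card_img hle hM]
    refine le_trans ?_ (hP.2 _ hconj)
    have hm := mor_autR (inv_mem ha) K.closed (le_refl R)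
    have himg : autFun a⁻¹ '' (Q : Set Ω) = autImg a⁻¹ Q := by
      ext y
      rw [SetLike.mem_coe, mem_autImg hQR]
      exact ⟨fun ⟨x, hx, e⟩ => ⟨x, hx, e⟩, fun ⟨x, hx, e⟩ => ⟨x, hx, e⟩⟩
    have : Finite (normalizerIn R (autImg a⁻¹ Q)) := finite_of_le (normalizerIn_le _)
    exact hm.card_le (normalizerIn_le Q) fun x hx => ⟨autFun_mem _ hx.1,
      (hm.map_normalizer hQR himg hx.1 hx.2).2⟩

end CfsgLib.Meet.Gen
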