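import Cfsg.Agent.Fus.Meet.Gen.Automizer
import Cfsg.Agent.LocalCharP.Residual

/-!
Elements of `A P` extend to the subgroups of `N_R(P)` whose automorphisms of `P` they carry into
`Aut_R(P)`, for a fully normalized `R`-centric subgroup `P`.
-/

set_option autoImplicit false

namespace CfsgLib.Meet.Gen

open Cfsg Cfsg.FusionSystem CfsgLib.Fus CfsgLib.NormalCent

variable {Ω : Type*} [Group Ω] {S R : Subgroup Ω} {F : Cfsg.FusionSystem S} {p : ℕ}
  {A : ∀ P : Subgroup Ω, Subgroup (MulAut P)} (K : NormalMap F p R A)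

/-- The elements of `N_R(P)` inducing elements of `J`. -/
def pre (R : Subgroup Ω) (P : Subgroup Ω) (J : Subgroup (MulAut P)) : Subgroup Ω :=
  (J.comap (P.normalizerMonoidHom.comp
    (Subgroup.inclusion (inf_le_right : normalizerIn R P ≤ Subgroup.normalizer (P : Set Ω))))).map
    (normalizerIn R P).subtype

theorem mem_pre {P : Subgroup Ω} {J : Subgroup (MulAut P)} {s : Ω} :
    s ∈ pre R P J ↔ s ∈ normalizerIn R P ∧ ∃ a ∈ J, ∀ x : P, ((a x : P) : Ω) = s * x * s⁻¹ := by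
  constructor
  · rintro ⟨⟨s, hs⟩, hJ, rfl⟩
    exact ⟨hs, _, hJ, fun x => rfl⟩
  · rintro ⟨hs, a, ha, hae⟩
    refine ⟨⟨s, hs⟩, ?_, rfl⟩
    have e : P.normalizerMonoidHom ⟨s, hs.2⟩ = a :=
      MulEquiv.ext fun x => Subtype.ext (hae x).symm
    show P.normalizerMonoidHom _ ∈ J
    exact e.symm ▸ ha

theorem pre_le (P : Subgroup Ω) (J : Subgroup (MulAut P)) : pre R P J ≤ normalizerIn R P :=
  fun _ hs => (mem_pre.1 hs).1

variable [Finite S] [Fact p.Prime] (hS : IsPGroup p S)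

include hS in
/-- `Aut_R(P)` is a Sylow subgroup of `A P` at a fully normalized `R`-centric subgroup. -/
theorem sylow_A {P : Subgroup Ω} (hP : (gen K).IsFullyNormalized P) (htc : TCentric F R P) :
    ∃ X : Sylow p (A P), (X : Subgroup (A P)) = (Cfsg.autInducedBy R P).subgroupOf (A P) := by
  obtain ⟨Q, f, hQ, hQR, hf, hfQ, hfN⟩ := exists_fn_map K hS hP
  have hRS := K.closed.1
  have hPS := hP.1.trans hRS
  have hPN : P ≤ normalizerIn S P := le_normalizerIn hPS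
  have hQtc : TCentric F R Q := tc_image K.closed htc (hf.restrict hPN) hfQ
  obtain ⟨φ, hφ, hφe⟩ := hf.restrict hPN
  have hr : φ.range = Q := SetLike.coe_injective (by
    rw [← hfQ]
    ext y
    constructor
    · rintro ⟨x, rfl⟩; exact ⟨x, x.2, (hφe x).symm⟩
    · rintro ⟨x, hx, rfl⟩; exact ⟨⟨x, hx⟩, hφe _⟩)
  set θ := MulAut.congr (isoOf hφ hr) with hθdef
  have hθ : ∀ (a : MulAut P) (x : P) (h : f x ∈ Q),
      ((θ a ⟨f x, h⟩ : Q) : Ω) = f ((a x : P) : Ω) := fun a x h => by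
    rw [show (⟨f x, h⟩ : Q) = isoOf hφ hr x from Subtype.ext (hφe x).symm]
    show ((isoOf hφ hr (a ((isoOf hφ hr).symm (isoOf hφ hr x))) : Q) : Ω) = _
    rw [MulEquiv.symm_apply_apply, isoOf_apply, hφe]
  have hA : (A P).map θ.toMonoidHom = A Q := by
    refine le_antisymm ?_ fun b hb => ?_
    · rintro _ ⟨a, ha, rfl⟩
      exact K.conj htc hφ hr a ha
    · obtain ⟨ψ, hψ, hψr, hl, -⟩ := Fus.exists_inv F hφ hr
      have h1 := K.conj hQtc hψ hψr b hb
      refine ⟨_, h1, ?_⟩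
      have e : isoOf hψ hψr = (isoOf hφ hr).symm := MulEquiv.ext fun y => Subtype.ext (by
        obtain ⟨x, rfl⟩ := (isoOf hφ hr).surjective y
        rw [MulEquiv.symm_apply_apply, isoOf_apply]
        exact hl x _)
      rw [e]
      refine MulEquiv.ext fun y => ?_
      obtain ⟨x, rfl⟩ := (isoOf hφ hr).surjective y
      simp [hθdef]
  have hX : (Cfsg.autInducedBy R P).map θ.toMonoidHom = Cfsg.autInducedBy R Q := by
    refine le_antisymm ?_ fun b hb => ?_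
    · rintro _ ⟨a, ha, rfl⟩
      obtain ⟨s, hs, hsx⟩ := Generated.mem_autInducedBy_of_sat ha
      have hsS : s ∈ normalizerIn S P := ⟨hRS hs.1, hs.2⟩
      have hfs : f s ∈ normalizerIn R Q := hfN.subset ⟨s, hs, rfl⟩
      refine mem_autInducedBy_iff.2 ⟨f s, hfs.1, fun y => ?_⟩
      obtain ⟨x, hx, hxy⟩ := hfQ.symm.subset y.2
      have hxQ : f x ∈ Q := hxy ▸ y.2
      rw [show y = ⟨f x, hxQ⟩ from Subtype.ext hxy.symm]
      show ((θ a ⟨f x, hxQ⟩ : Q) : Ω) = _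
      rw [hθ a ⟨x, hx⟩ hxQ, hsx]
      exact hf.map_conj hsS (hPN hx)
    · obtain ⟨t, ht, htx⟩ := Generated.mem_autInducedBy_of_sat hb
      obtain ⟨s, hs, rfl⟩ := hfN.symm.subset ht
      refine ⟨_, conjAut_mem_autInducedBy hs.2 hs.1, MulEquiv.ext fun y => Subtype.ext ?_⟩
      obtain ⟨x, hx, hxy⟩ := hfQ.symm.subset y.2
      have hxQ : f x ∈ Q := hxy ▸ y.2
      rw [show y = ⟨f x, hxQ⟩ from Subtype.ext hxy.symm]
      show ((θ _ ⟨f x, hxQ⟩ : Q) : Ω) = _
      rw [hθ _ ⟨x, hx⟩ hxQ, htx]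
      exact hf.map_conj ⟨hRS hs.1, hs.2⟩ (hPN hx)
  obtain ⟨Y, hY⟩ := K.sylow Q hQtc hQ
  have : Finite P := finite_of_le hPS
  have := finite_mulAut P
  have : Finite Q := finite_of_le hQ.1
  have := finite_mulAut Q
  have hidx : ¬ p ∣ (Cfsg.autInducedBy R P).relIndex (A P) := by
    rw [← Subgroup.relIndex_map_map_of_injective _ _ (f := θ.toMonoidHom) θ.injective]
    show ¬ p ∣ ((Cfsg.autInducedBy R P).map θ.toMonoidHom).relIndex ((A P).map θ.toMonoidHom)
    rw [hX, hA, Subgroup.relIndex, ← hY]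
    exact Y.not_dvd_index
  have hp : IsPGroup p ((Cfsg.autInducedBy R P).subgroupOf (A P)) :=
    (isPGroup_autInducedBy (hS.to_le hRS) P).comap_of_injective _ (Subgroup.subtype_injective _)
  exact ⟨hp.toSylow hidx, rfl⟩

include hS in
/-- The extension axiom, at a subgroup fully normalized in the generated system. -/
theorem extend_coprime {P : Subgroup Ω} (hP : (gen K).IsFullyNormalized P) (htc : TCentric F R P)
    {b : MulAut P} (hb : b ∈ A P) (hord : (orderOf b).Coprime p) {L : Subgroup Ω} (hPL : P ≤ L)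
    (hL : L ≤ normalizerIn R P) (hcond : ∀ g ∈ L, ∃ h ∈ L, ∀ x : P, ∀ hx : g * (x : Ω) * g⁻¹ ∈ P,
      ((b ⟨g * (x : Ω) * g⁻¹, hx⟩ : P) : Ω) = h * ((b x : P) : Ω) * h⁻¹) :
    ∃ t, Mor (gen K) L t ∧ ∀ x : P, t x = ((b x : P) : Ω) := by
  obtain ⟨Q, f, hQ, hQR, hf, hfQ, hfN⟩ := exists_fn_map K hS hP
  have hRS := K.closed.1
  have hPS := hP.1.trans hRS
  have hPN : P ≤ normalizerIn S P := le_normalizerIn hPS
  have hLS : L ≤ normalizerIn S P := fun y hy => ⟨hRS (hL hy).1, (hL hy).2⟩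
  have hQtc : TCentric F R Q := tc_image K.closed htc (hf.restrict hPN) hfQ
  obtain ⟨φ, hφ, hφe⟩ := hf.restrict hPN
  have hr : φ.range = Q := SetLike.coe_injective (by
    rw [← hfQ]
    ext y
    constructor
    · rintro ⟨x, rfl⟩; exact ⟨x, x.2, (hφe x).symm⟩
    · rintro ⟨x, hx, rfl⟩; exact ⟨⟨x, hx⟩, hφe _⟩)
  set c := MulAut.congr (isoOf hφ hr) b with hcdef
  have hc : ∀ (x : P) (h : f x ∈ Q), ((c ⟨f x, h⟩ : Q) : Ω) = f ((b x : P) : Ω) := fun x h => by
    rw [show (⟨f x, h⟩ : Q) = isoOf hφ hr x from Subtype.ext (hφe x).symm]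
    show ((isoOf hφ hr (b ((isoOf hφ hr).symm (isoOf hφ hr x))) : Q) : Ω) = _
    rw [MulEquiv.symm_apply_apply, isoOf_apply, hφe]
  obtain ⟨M, hM, -⟩ := hf.exists_img hLS
  have hQM : Q ≤ M := fun y hy => by
    obtain ⟨x, hx, rfl⟩ := hfQ.symm.subset hy
    exact hM.subset ⟨x, hPL hx, rfl⟩
  have hMN : M ≤ normalizerIn R Q := fun y hy => by
    obtain ⟨x, hx, rfl⟩ := hM.symm.subset hy
    exact hfN.subset ⟨x, hL hx, rfl⟩
  have hcA : c ∈ A Q := K.conj htc hφ hr b hb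
  have hord' : (orderOf c).Coprime p := by
    rw [hcdef, MulEquiv.orderOf_eq]
    exact hord
  obtain ⟨a, ha, hae⟩ := K.extend hQtc hQ hQM hMN c hcA hord' fun g hg => by
    obtain ⟨l, hl, rfl⟩ := hM.symm.subset hg
    obtain ⟨h, hh, hhe⟩ := hcond l hl
    refine ⟨f h, hM.subset ⟨h, hh, rfl⟩, fun y hy => ?_⟩
    obtain ⟨x, hx, hxy⟩ := hfQ.symm.subset y.2
    have hlx : l * x * l⁻¹ ∈ P := conj_mem_of_normalizer (hLS hl).2 hx
    have e1 : f l * (y : Ω) * (f l)⁻¹ = f (l * x * l⁻¹) := by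
      rw [← hxy]; exact (hf.map_conj (hLS hl) (hPN hx)).symm
    have hm : f (l * x * l⁻¹) ∈ Q := e1 ▸ hy
    have hxQ : f x ∈ Q := hxy ▸ y.2
    rw [show (⟨f l * (y : Ω) * (f l)⁻¹, hy⟩ : Q) = ⟨f (l * x * l⁻¹), hm⟩ from Subtype.ext e1,
      show y = ⟨f x, hxQ⟩ from Subtype.ext hxy.symm, hc ⟨l * x * l⁻¹, hlx⟩ hm, hc ⟨x, hx⟩ hxQ,
      hhe ⟨x, hx⟩ hlx, hf.map_conj (hLS hh) (hPN (b ⟨x, hx⟩).2)]
  obtain ⟨fi, hfi, hfil, -, -⟩ := (hf.restrict hLS).exists_inv hM
  obtain ⟨ψ, hψ, hψe⟩ := hfi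
  have hψr : ψ.range = L := SetLike.coe_injective (by
    ext y
    constructor
    · rintro ⟨⟨z, hz⟩, rfl⟩
      obtain ⟨x, hx, rfl⟩ := hM.symm.subset hz
      show ψ _ ∈ L
      rw [hψe, hfil x hx]
      exact hx
    · intro hy
      exact ⟨⟨f y, hM.subset ⟨y, hy, rfl⟩⟩, (hψe _).trans (hfil y hy)⟩)
  have hMtc : TCentric F R M := tc_mono hQtc hQM (hMN.trans (normalizerIn_le Q))
  have hLtc : TCentric F R L := tc_mono htc hPL (hL.trans (normalizerIn_le P))
  have ha' := gen_gen K hLtc (K.conj hMtc hψ hψr a ha)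
  obtain ⟨t, ht, hte⟩ := exists_mor ((mem_autGroup_iff _ hLtc.1).1 ha')
  refine ⟨t, ht, fun x => ?_⟩
  rw [show t x = _ from hte ⟨x, hPL x.2⟩]
  have hxQ : f x ∈ Q := hfQ.subset ⟨x, x.2, rfl⟩
  have e : (⟨x, hPL x.2⟩ : L) = isoOf hψ hψr ⟨f x, hQM hxQ⟩ :=
    Subtype.ext ((hψe ⟨f x, hQM hxQ⟩).trans (hfil x (hPL x.2))).symm
  show ((MulAut.congr (isoOf hψ hψr) a ⟨x, hPL x.2⟩ : L) : Ω) = _
  rw [e]
  show ((isoOf hψ hψr (a ((isoOf hψ hψr).symm (isoOf hψ hψr ⟨f x, hQM hxQ⟩))) : L) : Ω) = _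
  rw [MulEquiv.symm_apply_apply, isoOf_apply, hψe]
  have h1 := hae ⟨f x, hxQ⟩
  change ((a ⟨f x, hQM hxQ⟩ : M) : Ω) = _ at h1
  rw [h1, hc x hxQ, hfil _ (hPL (b x).2)]

/-- `a` extends to the preimage of `J` in the generated system. -/
def Ext (P : Subgroup Ω) (J : Subgroup (A P)) (a : A P) : Prop :=
  ∃ t, Mor (gen K) (pre R P (J.map (A P).subtype)) t ∧
    ∀ x : P, t x = (((a : MulAut P) x : P) : Ω)

variable {K}

omit [Finite S] [Fact p.Prime] in
theorem Ext.mono {P : Subgroup Ω} {J J' : Subgroup (A P)} {a : A P} (h : Ext K P J' a)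
    (hJ : J ≤ J') : Ext K P J a := by
  obtain ⟨t, ht, hte⟩ := h
  refine ⟨t, ht.restrict fun s hs => ?_, hte⟩
  obtain ⟨h1, b, hb, hbe⟩ := mem_pre.1 hs
  exact mem_pre.2 ⟨h1, b, Subgroup.map_mono hJ hb, hbe⟩

omit [Finite S] [Fact p.Prime] in
/-- An extension of `a` maps the preimage of `J` onto that of the conjugate. -/
theorem Ext.image {P : Subgroup Ω} (htc : TCentric F R P) {J : Subgroup (A P)} {a : A P}
    (hJ : J.map (A P).subtype ≤ Cfsg.autInducedBy R P) (hPJ : P ≤ pre R P (J.map (A P).subtype))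
    {t : Ω → Ω} (ht : Mor (gen K) (pre R P (J.map (A P).subtype)) t)
    (hte : ∀ x : P, t x = (((a : MulAut P) x : P) : Ω)) :
    t '' (pre R P (J.map (A P).subtype) : Set Ω) =
      pre R P ((J.map (MulAut.conj a).toMonoidHom).map (A P).subtype) := by
  have htP : t '' (P : Set Ω) = P := by
    ext y
    constructor
    · rintro ⟨x, hx, rfl⟩; rw [show t x = _ from hte ⟨x, hx⟩]; exact ((a : MulAut P) ⟨x, hx⟩).2
    · intro hy
      exact ⟨_, ((a : MulAut P)⁻¹ ⟨y, hy⟩).2, (hte _).trans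
        (congrArg Subtype.val ((a : MulAut P).apply_symm_apply ⟨y, hy⟩))⟩
  have htn : ∀ l ∈ pre R P (J.map (A P).subtype), t l ∈ normalizerIn R P := fun l hl =>
    ht.map_normalizer hPJ htP hl (pre_le P _ hl).2
  have hconj : ∀ l, ∀ hl : l ∈ pre R P (J.map (A P).subtype), ∀ b : A P,
      (∀ x : P, (((b : MulAut P) x : P) : Ω) = l * x * l⁻¹) → ∀ y : P,
        (((a * b * a⁻¹ : A P) : MulAut P) y : Ω) = t l * y * (t l)⁻¹ := fun l hl b hb y => by
    obtain ⟨x, rfl⟩ := (a : MulAut P).surjective y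
    show (((a : MulAut P) ((b : MulAut P) ((a : MulAut P)⁻¹ ((a : MulAut P) x))) : P) : Ω) = _
    rw [MulAut.inv_apply_self, ← hte, ← hte, hb, ht.map_conj hl (hPJ x.2)]
  ext m
  constructor
  · rintro ⟨l, hl, rfl⟩
    obtain ⟨-, b, ⟨b₀, hb₀, rfl⟩, hbe⟩ := mem_pre.1 hl
    exact mem_pre.2 ⟨htn l hl, _, ⟨a * b₀ * a⁻¹, ⟨b₀, hb₀, rfl⟩, rfl⟩, hconj l hl b₀ hbe⟩
  · intro hm
    obtain ⟨hmN, _, ⟨_, ⟨b, hb, rfl⟩, rfl⟩, hme⟩ := mem_pre.1 hm
    obtain ⟨l, hl, hle⟩ := Generated.mem_autInducedBy_of_sat (hJ ⟨b, hb, rfl⟩)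
    have hlJ : l ∈ pre R P (J.map (A P).subtype) := mem_pre.2 ⟨hl, _, ⟨b, hb, rfl⟩, hle⟩
    have hz : (t l)⁻¹ * m ∈ centralizerIn R P := by
      refine ⟨R.mul_mem (R.inv_mem (htn l hlJ).1) hmN.1, fun y hy => ?_⟩
      have h1 := hme ⟨y, hy⟩
      rw [show (((A P).subtype ((MulAut.conj a).toMonoidHom b) : MulAut P) ⟨y, hy⟩ : Ω) =
        t l * y * (t l)⁻¹ from hconj l hlJ b hle ⟨y, hy⟩] at h1
      calc y * ((t l)⁻¹ * m) = (t l)⁻¹ * (t l * y * (t l)⁻¹) * m := by group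
        _ = (t l)⁻¹ * (m * y * m⁻¹) * m := by rw [h1]
        _ = (t l)⁻¹ * m * y := by group
    obtain ⟨z, hz', hze⟩ := htP.symm.subset (tc_centralizer htc K.closed.1 hz)
    refine ⟨l * z, Subgroup.mul_mem _ hlJ (hPJ hz'), ?_⟩
    rw [ht.map_mul hlJ (hPJ hz'), hze, mul_inv_cancel_left]

omit [Finite S] [Fact p.Prime] in
theorem Ext.comp {P : Subgroup Ω} (htc : TCentric F R P) {J : Subgroup (A P)} {a b : A P}
    (hJ : J.map (A P).subtype ≤ Cfsg.autInducedBy R P) (hPJ : P ≤ pre R P (J.map (A P).subtype))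
    (ha : Ext K P J a) (hb : Ext K P (J.map (MulAut.conj a).toMonoidHom) b) :
    Ext K P J (b * a) := by
  obtain ⟨t, ht, hte⟩ := ha
  obtain ⟨u, hu, hue⟩ := hb
  refine ⟨u ∘ t, ht.comp hu fun x hx => (Ext.image htc hJ hPJ ht hte).subset ⟨x, hx, rfl⟩,
    fun x => ?_⟩
  show u (t x) = (((b : MulAut P) ((a : MulAut P) x) : P) : Ω)
  rw [hte, hue]

omit [Finite S] [Fact p.Prime] in
theorem Ext.inv {P : Subgroup Ω} (htc : TCentric F R P) {J : Subgroup (A P)} {a : A P}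
    (hJ : J.map (A P).subtype ≤ Cfsg.autInducedBy R P) (hPJ : P ≤ pre R P (J.map (A P).subtype))
    (ha : Ext K P J a) : Ext K P (J.map (MulAut.conj a).toMonoidHom) a⁻¹ := by
  obtain ⟨t, ht, hte⟩ := ha
  obtain ⟨u, hu, hul, -, -⟩ := ht.exists_inv (Ext.image htc hJ hPJ ht hte)
  refine ⟨u, hu, fun y => ?_⟩
  obtain ⟨x, rfl⟩ := (a : MulAut P).surjective y
  rw [← hte, hul _ (hPJ x.2)]
  show (x : Ω) = (((a : MulAut P)⁻¹ ((a : MulAut P) x) : P) : Ω)
  rw [MulAut.inv_apply_self]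

variable (K)

include hS in
/-- The normalizer of a tame subgroup extends. -/
theorem ext_normalizer {P : Subgroup Ω} (hP : (gen K).IsFullyNormalized P) (htc : TCentric F R P)
    {J : Subgroup (A P)} (hJ : J.map (A P).subtype ≤ Cfsg.autInducedBy R P)
    (hPJ : P ≤ pre R P (J.map (A P).subtype))
    (V : Sylow p (Subgroup.normalizer (J : Set (A P))))
    (hV : ∀ v ∈ (V : Subgroup (Subgroup.normalizer (J : Set (A P)))),
      ((v : A P) : MulAut P) ∈ Cfsg.autInducedBy R P)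
    {m : A P} (hm : m ∈ Subgroup.normalizer (J : Set (A P))) : Ext K P J m := by
  have hPR := htc.1
  have hconjJ : ∀ n ∈ Subgroup.normalizer (J : Set (A P)),
      J.map (MulAut.conj n).toMonoidHom = J := fun n hn => by
    ext y
    rw [Subgroup.mem_map_equiv, MulAut.conj_symm_apply]
    have := Subgroup.mem_normalizer_iff.1 hn (n⁻¹ * y * n)
    simpa [mul_assoc] using this
  let G : Subgroup (Subgroup.normalizer (J : Set (A P))) :=
    { carrier := {n | Ext K P J n}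
      one_mem' := ⟨id, mor_id ((pre_le P _).trans (normalizerIn_le P)), fun x => rfl⟩
      mul_mem' := fun {n k} hn hk => Ext.comp htc hJ hPJ hk (by rw [hconjJ _ k.2]; exact hn)
      inv_mem' := fun {n} hn => by
        have := Ext.inv htc hJ hPJ hn
        rwa [hconjJ _ n.2] at this }
  suffices h : G = ⊤ from (h ▸ Subgroup.mem_top (⟨m, hm⟩ : Subgroup.normalizer (J : Set (A P))) :)
  have : Finite P := finite_of_le (hPR.trans K.closed.1)
  have := finite_mulAut P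
  refine top_unique ((LocalCharP.pResidual_sup_sylow V).ge.trans (sup_le ?_ ?_))
  · refine (Subgroup.closure_le _).2 fun n hn => ?_
    refine extend_coprime K hS hP htc (n : A P).2 ?_ hPJ (pre_le P _) fun g hg => ?_
    · rwa [Subgroup.orderOf_coe, Subgroup.orderOf_coe]
    · obtain ⟨hgN, _, ⟨b, hb, rfl⟩, hbe⟩ := mem_pre.1 hg
      have h1 := (Subgroup.mem_normalizer_iff.1 n.2 b).1 hb
      obtain ⟨h, hh, hhe⟩ := Generated.mem_autInducedBy_of_sat (hJ ⟨_, h1, rfl⟩)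
      refine ⟨h, mem_pre.2 ⟨hh, _, ⟨_, h1, rfl⟩, hhe⟩, fun x hx => ?_⟩
      rw [← hhe, show (⟨g * x * g⁻¹, hx⟩ : P) = (b : MulAut P) x from Subtype.ext (hbe x).symm]
      show _ = ((((n : A P) : MulAut P) ((b : MulAut P) (((n : A P) : MulAut P)⁻¹
        (((n : A P) : MulAut P) x))) : P) : Ω)
      rw [MulAut.inv_apply_self]
  · intro n hn
    obtain ⟨s, hs, hse⟩ := Generated.mem_autInducedBy_of_sat (hV n hn)
    exact ⟨_, mor_conj ((pre_le P _).trans (normalizerIn_le P)) hs.1, fun x => (hse x).symm⟩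

include hS in
/-- An element of `A P` carrying a subgroup of `Aut_R(P)` into `Aut_R(P)` extends to its
preimage. -/
theorem ext_all {P : Subgroup Ω} (hP : (gen K).IsFullyNormalized P) (htc : TCentric F R P)
    {J : Subgroup (A P)} {a : A P} (hJ : J.map (A P).subtype ≤ Cfsg.autInducedBy R P)
    (ha : (J.map (MulAut.conj a).toMonoidHom).map (A P).subtype ≤ Cfsg.autInducedBy R P)
    (hPJ : P ≤ pre R P (J.map (A P).subtype)) : Ext K P J a := by
  have hPR := htc.1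
  have : Finite P := finite_of_le (hPR.trans K.closed.1)
  have := finite_mulAut P
  obtain ⟨X, hX⟩ := sylow_A K hS hP htc
  have hsub : ∀ {D : Subgroup (A P)}, D ≤ (X : Subgroup (A P)) ↔
      D.map (A P).subtype ≤ Cfsg.autInducedBy R P := fun {D} => by
    rw [hX]
    exact ⟨fun h => by rintro _ ⟨d, hd, rfl⟩; exact h hd, fun h d hd => h ⟨d, hd, rfl⟩⟩
  induction hn : Nat.card (A P) - Nat.card J using Nat.strong_induction_on generalizing J a with
  | _ n ih =>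
  have hJX := hsub.2 hJ
  set J₂ := J.map (MulAut.conj a).toMonoidHom with hJ₂def
  have hJ₂X : J₂ ≤ (X : Subgroup (A P)) := hsub.2 ha
  have hcard : Nat.card J₂ = Nat.card J :=
    Subgroup.card_map_of_injective (MulAut.conj a).injective
  set M := Subgroup.normalizer (J : Set (A P)) with hM
  have hconj : ∀ (w : A P) (D : Subgroup (A P)), ∀ d ∈ D,
      w * d * w⁻¹ ∈ D.map (MulAut.conj w).toMonoidHom := fun w D d hd => ⟨d, hd, rfl⟩
  by_cases hJe : J = (X : Subgroup (A P))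
  · have hJ₂e : J₂ = J := by
      rw [hJe]
      exact Subgroup.eq_of_le_of_card_ge hJ₂X (by rw [hcard, hJe])
    have ham : a ∈ M := by
      refine Subgroup.mem_normalizer_iff.2 fun y => ⟨fun hy => ?_, fun hy => ?_⟩
      · have := hconj a J y hy
        rwa [← hJ₂def, hJ₂e] at this
      · rw [← hJ₂e] at hy
        obtain ⟨z, hz, hze⟩ := hy
        have : z = y := mul_left_cancel (mul_right_cancel hze)
        exact this ▸ hz
    have hXM : (X : Subgroup (A P)) ≤ M := hJe ▸ Subgroup.le_normalizer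
    refine ext_normalizer K hS hP htc hJ hPJ (X.subtype hXM) (fun v hv => ?_) ham
    have hv' : (v : A P) ∈ (X : Subgroup (A P)) := hv
    rw [hX] at hv'
    exact hv'
  have grow : ∀ {D : Subgroup (A P)}, D ≤ (X : Subgroup (A P)) → D ≠ (X : Subgroup (A P)) →
      Nat.card D < Nat.card ((X : Subgroup (A P)) ⊓ Subgroup.normalizer (D : Set (A P)) :
        Subgroup (A P)) := by
    intro D hD hne
    obtain ⟨g, hg, hgD⟩ := Fusion.Alperin.exists_normalizing_not_mem X.isPGroup' hD hne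
    exact Fusion.Alperin.card_lt_of_le_of_mem inf_le_left (le_inf hD Subgroup.le_normalizer)
      hg hgD
  have ih' : ∀ {D : Subgroup (A P)} {w : A P}, D ≤ (X : Subgroup (A P)) →
      D.map (MulAut.conj w).toMonoidHom ≤ (X : Subgroup (A P)) →
        P ≤ pre R P (D.map (A P).subtype) → Nat.card J < Nat.card D → Ext K P D w := by
    intro D w hD hw hPD hlt
    have : Nat.card D ≤ Nat.card (A P) := Subgroup.card_le_card_group D
    exact ih (Nat.card (A P) - Nat.card D) (by omega) (hsub.1 hD) (hsub.1 hw) hPD rfl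
  -- the tame conjugate
  set N₁ := (X : Subgroup (A P)) ⊓ M
  obtain ⟨U, hU⟩ := ((X.isPGroup'.to_le (inf_le_left : N₁ ≤ _)).comap_of_injective M.subtype
    M.subtype_injective).exists_le_sylow
  obtain ⟨z, hz⟩ := exists_conj_mem_sylow X (U.isPGroup'.map M.subtype)
  have hzJ : J.map (MulAut.conj z).toMonoidHom ≤ (X : Subgroup (A P)) := by
    rintro _ ⟨j, hj, rfl⟩
    exact hz j ⟨⟨j, Subgroup.le_normalizer hj⟩, hU ⟨hJX hj, Subgroup.le_normalizer hj⟩, rfl⟩
  have hN₁ : J ≤ N₁ := le_inf hJX Subgroup.le_normalizer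
  have hExtz : Ext K P J z := by
    refine (ih' inf_le_left ?_ ?_ (grow hJX hJe)).mono hN₁
    · rintro _ ⟨d, hd, rfl⟩
      exact hz d ⟨⟨d, hd.2⟩, hU hd, rfl⟩
    · intro x hx
      obtain ⟨h1, b, hb, hbe⟩ := mem_pre.1 (hPJ hx)
      exact mem_pre.2 ⟨h1, b, Subgroup.map_mono hN₁ hb, hbe⟩
  set J' := J.map (MulAut.conj z).toMonoidHom with hJ'def
  have hJ' := hsub.1 hzJ
  obtain ⟨t, ht, hte⟩ := hExtz
  have hPJ' : P ≤ pre R P (J'.map (A P).subtype) := fun y hy => by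
    refine (Ext.image htc hJ hPJ ht hte).subset ⟨_, hPJ ((z : MulAut P)⁻¹ ⟨y, hy⟩).2, (hte _).trans ?_⟩
    exact congrArg Subtype.val ((z : MulAut P).apply_symm_apply ⟨y, hy⟩)
  have hExtz : Ext K P J z := ⟨t, ht, hte⟩
  -- a Sylow subgroup of the normalizer of `J'` inside `X`
  set M' := Subgroup.normalizer (J' : Set (A P)) with hM'
  have hMM' : M.map (MulAut.conj z).toMonoidHom = M' := by
    rw [hM', hJ'def, hM]
    exact Subgroup.map_equiv_normalizer_eq J (MulAut.conj z)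
  set D := ((U : Subgroup M).map M.subtype).map (MulAut.conj z).toMonoidHom with hD
  have hDM' : D ≤ M' := by
    rw [hD, ← hMM']
    exact Subgroup.map_mono (Subgroup.map_subtype_le _)
  have hDX : D ≤ (X : Subgroup (A P)) := by
    rintro _ ⟨d, hd, rfl⟩
    exact hz d hd
  obtain ⟨V, hV⟩ := ((X.isPGroup'.to_le hDX).comap_of_injective M'.subtype
    M'.subtype_injective).exists_le_sylow
  have hVD : (V : Subgroup M').map M'.subtype = D := by
    refine (Subgroup.eq_of_le_of_card_ge (show D ≤ (V : Subgroup M').map M'.subtype from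
      fun d hd => ⟨⟨d, hDM' hd⟩, hV hd, rfl⟩) ?_).symm
    rw [Subgroup.card_map_of_injective M'.subtype_injective, hD,
      Subgroup.card_map_of_injective (MulAut.conj z).injective,
      Subgroup.card_map_of_injective M.subtype_injective, V.card_eq_multiplicity,
      U.card_eq_multiplicity, ← hMM', Subgroup.card_map_of_injective (MulAut.conj z).injective]
  have hVX : ∀ v ∈ (V : Subgroup M'), (v : A P) ∈ (X : Subgroup (A P)) := fun v hv =>
    hDX (hVD.le ⟨v, hv, rfl⟩)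
  -- the conjugator of the image
  set w := z * a⁻¹ with hw
  set N₂ := (X : Subgroup (A P)) ⊓ Subgroup.normalizer (J₂ : Set (A P))
  have hwJ : J₂.map (MulAut.conj w).toMonoidHom = J' := by
    rw [hJ₂def, Subgroup.map_map, hJ'def]
    congr 1
    ext y
    simp [hw, mul_assoc]
  have hwM : N₂.map (MulAut.conj w).toMonoidHom ≤ M' := by
    rw [hM', ← hwJ]
    exact (Subgroup.map_mono inf_le_right).trans
      (Subgroup.map_equiv_normalizer_eq J₂ (MulAut.conj w)).le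
  obtain ⟨m, hm⟩ := exists_conj_mem_sylow V
    (((X.isPGroup'.to_le (inf_le_left : N₂ ≤ _)).map (MulAut.conj w).toMonoidHom).comap_of_injective
      M'.subtype M'.subtype_injective)
  have hmJ : J'.map (MulAut.conj (m : A P)).toMonoidHom = J' := by
    ext y
    rw [Subgroup.mem_map_equiv, MulAut.conj_symm_apply]
    have := Subgroup.mem_normalizer_iff.1 m.2 ((m : A P)⁻¹ * y * (m : A P))
    simpa [mul_assoc] using this
  set z' := (m : A P) * w with hz'
  have hN₂ : J₂ ≤ N₂ := le_inf hJ₂X Subgroup.le_normalizer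
  have hJ₂ne : J₂ ≠ (X : Subgroup (A P)) := fun e => hJe
    (Subgroup.eq_of_le_of_card_ge hJX (by rw [← e, hcard]))
  have hJ₂z' : J₂.map (MulAut.conj z').toMonoidHom = J' := by
    rw [show (MulAut.conj z').toMonoidHom =
      (MulAut.conj (m : A P)).toMonoidHom.comp (MulAut.conj w).toMonoidHom from
        MonoidHom.ext fun y => by simp [hz', mul_assoc], ← Subgroup.map_map, hwJ, hmJ]
  have hPJ₂ : P ≤ pre R P (N₂.map (A P).subtype) := by
    intro x hx
    refine mem_pre.2 ⟨le_normalizerIn hPR hx, conjAut (Subgroup.le_normalizer hx), ?_, fun _ => rfl⟩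
    obtain ⟨-, b, ⟨b₀, hb₀, rfl⟩, hbe⟩ := mem_pre.1
      (hPJ ((a : MulAut P)⁻¹ ⟨x, hx⟩).2)
    refine ⟨a * b₀ * a⁻¹, hN₂ (hconj a J b₀ hb₀), MulEquiv.ext fun y => Subtype.ext ?_⟩
    obtain ⟨u, rfl⟩ := (a : MulAut P).surjective y
    show (((a : MulAut P) ((b₀ : MulAut P) ((a : MulAut P)⁻¹ ((a : MulAut P) u))) : P) : Ω) = _
    rw [MulAut.inv_apply_self, show ((b₀ : MulAut P) u) = (a : MulAut P)⁻¹ ⟨x, hx⟩ * u *
      ((a : MulAut P)⁻¹ ⟨x, hx⟩)⁻¹ from Subtype.ext (hbe u), map_mul, map_mul, map_inv,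
      MulAut.apply_inv_self]
    rfl
  have hExtz' : Ext K P J₂ z' := by
    refine (ih' (w := z') inf_le_left ?_ hPJ₂ (hcard ▸ grow hJ₂X hJ₂ne)).mono hN₂
    rintro _ ⟨d, hd, rfl⟩
    have h1 : w * d * w⁻¹ ∈ N₂.map (MulAut.conj w).toMonoidHom := ⟨d, hd, rfl⟩
    have h2 := hVX _ (hm ⟨w * d * w⁻¹, hwM h1⟩ h1)
    show z' * d * z'⁻¹ ∈ _
    have e : z' * d * z'⁻¹ = (m : A P) * (w * d * w⁻¹) * (m : A P)⁻¹ := by rw [hz']; group
    rw [e]
    exact h2
  have hPJ₂' : P ≤ pre R P (J₂.map (A P).subtype) := by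
    intro x hx
    obtain ⟨-, b, ⟨b₀, hb₀, rfl⟩, hbe⟩ := mem_pre.1 (hPJ ((a : MulAut P)⁻¹ ⟨x, hx⟩).2)
    refine mem_pre.2 ⟨le_normalizerIn hPR hx, _, ⟨a * b₀ * a⁻¹, hconj a J b₀ hb₀, rfl⟩, fun y => ?_⟩
    obtain ⟨u, rfl⟩ := (a : MulAut P).surjective y
    show (((a : MulAut P) ((b₀ : MulAut P) ((a : MulAut P)⁻¹ ((a : MulAut P) u))) : P) : Ω) = _
    rw [MulAut.inv_apply_self, show ((b₀ : MulAut P) u) = (a : MulAut P)⁻¹ ⟨x, hx⟩ * u *
      ((a : MulAut P)⁻¹ ⟨x, hx⟩)⁻¹ from Subtype.ext (hbe u), map_mul, map_mul, map_inv,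
      MulAut.apply_inv_self]
    rfl
  have h1 := Ext.inv htc (hsub.1 hJ₂X) hPJ₂' hExtz'
  rw [hJ₂z'] at h1
  have h2 := ext_normalizer K hS hP htc hJ' hPJ' V (fun v hv => by
    have h3 := hVX v hv
    rw [hX] at h3
    exact h3) m.2
  have h3 := Ext.comp htc hJ hPJ hExtz (b := z'⁻¹ * (m : A P))
    (Ext.comp htc hJ' hPJ' h2 (by rw [hmJ]; exact h1))
  have e : a = z'⁻¹ * (m : A P) * z := by rw [hz', hw]; group
  rw [e]
  exact h3

end CfsgLib.Meet.Gen
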