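import Cfsg.Agent.Fus.Meet.Gen.Base
import Cfsg.Agent.Fus.Generated

/-!
Receiving maps in the generated system, at a class of `R`-centric subgroups, and the automizer of
`R`.
-/

set_option autoImplicit false

namespace CfsgLib.Meet.Gen

open Cfsg Cfsg.FusionSystem CfsgLib.Fus CfsgLib.NormalCent
open CfsgLib.Fus.Generated (Recv Common Sat Target LinksFrom)

variable {Ω : Type*} [Group Ω] {S R : Subgroup Ω} {F : Cfsg.FusionSystem S} {p : ℕ}
  {A : ∀ P : Subgroup Ω, Subgroup (MulAut P)} (K : NormalMap F p R A)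

/-- A property of maps between members of a class that holds for links and for the groups `A Q`
and passes to composites and inverses holds for every generated map. -/
theorem class_induction [Finite R] [Fact p.Prime] (hRp : IsPGroup p R) {P₀ : Subgroup Ω}
    (hP₀ : P₀ ≠ R) (C : Subgroup Ω → Subgroup Ω → (Ω → Ω) → Prop)
    (hcongr : ∀ {Q Q' : Subgroup Ω} {f g : Ω → Ω}, (∀ x ∈ Q, g x = f x) → C Q Q' f → C Q Q' g)
    (hcomp : ∀ {Q Q' Q'' : Subgroup Ω} {f g : Ω → Ω}, (gen K).IsConj P₀ Q → Mor (gen K) Q f →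
      f '' (Q : Set Ω) = Q' → Mor (gen K) Q' g → g '' (Q' : Set Ω) = Q'' → C Q Q' f → C Q' Q'' g →
        C Q Q'' (g ∘ f))
    (hinv : ∀ {Q Q' : Subgroup Ω} {f g : Ω → Ω}, (gen K).IsConj P₀ Q → Mor (gen K) Q f →
      f '' (Q : Set Ω) = Q' → Mor (gen K) Q' g → (∀ x ∈ Q, g (f x) = x) → C Q Q' f → C Q' Q g)
    (hlink : ∀ {N Q Q' : Subgroup Ω} {f : Ω → Ω}, (gen K).IsConj P₀ Q → Q ≤ N →
      N ≤ normalizerIn R Q → Nat.card Q < Nat.card N → Mor (gen K) N f →
        f '' (Q : Set Ω) = Q' → C Q Q' f)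
    (hself : ∀ {Q : Subgroup Ω} {a : MulAut Q} {f : Ω → Ω}, (gen K).IsConj P₀ Q →
      TCentric F R Q → a ∈ A Q → (∀ x : Q, f x = ((a x : Q) : Ω)) → C Q Q f)
    {Q Q' : Subgroup Ω} {f : Ω → Ω} (hQ : (gen K).IsConj P₀ Q) (hf : Mor (gen K) Q f)
    (hfi : f '' (Q : Set Ω) = Q') : C Q Q' f := by
  have hne : ∀ {Q}, (gen K).IsConj P₀ Q → Q ≠ R := fun {Q} h e =>
    hP₀ (Subgroup.eq_of_le_of_card_ge (isConj_le_left h) (by rw [isConj_card h, e]))
  let E : Cfsg.FusionSystem R :=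
    { Hom := fun M => {φ | φ ∈ (gen K).Hom M ∧ ∀ (Q Q' : Subgroup Ω) (f : Ω → Ω),
        (gen K).IsConj P₀ Q → ∀ hQM : Q ≤ M, (∀ x : Q, f x = φ (Subgroup.inclusion hQM x)) →
          f '' (Q : Set Ω) = Q' → C Q Q' f}
      le_of_mem := fun h => (gen K).le_of_mem h.1
      injective_of_mem := fun h => (gen K).injective_of_mem h.1
      conj_mem := fun {M g} hM hg => ⟨(gen K).conj_mem hM hg, fun Q Q' f hQc hQM hfe hfi => by
        have hQR := isConj_le_right hQc
        obtain ⟨s, hs, hsQ⟩ := Fusion.Alperin.exists_normalizing_not_mem hRp hQR (hne hQc)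
        refine hcongr (f := fun x => g * x * g⁻¹) (fun x hx => hfe ⟨x, hx⟩) (hlink hQc
          (le_normalizerIn hQR) le_rfl
          (Fusion.Alperin.card_lt_of_le_of_mem (normalizerIn_le Q) (le_normalizerIn hQR) hs hsQ)
          (mor_conj (normalizerIn_le Q) hg) ?_)
        rw [← hfi]
        exact Set.image_congr fun x hx => (hfe ⟨x, hx⟩).symm⟩
      comp_mem := fun {P₁ P₂ φ ψ} hφ hψ hm => ⟨(gen K).comp_mem hφ.1 hψ.1 hm,
        fun Q Q' f hQc hQM hfe hfi => by
          obtain ⟨f₁, hf₁, hf₁e⟩ := exists_mor hφ.1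
          obtain ⟨f₂, hf₂, hf₂e⟩ := exists_mor hψ.1
          obtain ⟨Q₁, hQ₁, -⟩ := hf₁.exists_img hQM
          have hQ₁P : Q₁ ≤ P₂ := by
            intro y hy
            obtain ⟨x, hx, rfl⟩ := hQ₁.symm.subset hy
            rw [show f₁ x = _ from hf₁e ⟨x, hQM hx⟩]
            exact hm _
          have hfeq : ∀ x ∈ Q, f x = (f₂ ∘ f₁) x := fun x hx => by
            rw [show f x = _ from hfe ⟨x, hx⟩]
            show ψ ⟨φ ⟨x, hQM hx⟩, hm _⟩ = f₂ (f₁ x)
            rw [show f₁ x = _ from hf₁e ⟨x, hQM hx⟩]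
            exact (hf₂e ⟨φ ⟨x, hQM hx⟩, hm _⟩).symm
          have hQ₁c : (gen K).IsConj P₀ Q₁ := isConj_trans hQc ((hf₁.restrict hQM).isConj hQ₁)
          obtain ⟨Q₂, hQ₂, -⟩ := hf₂.exists_img hQ₁P
          have e : Q₂ = Q' := SetLike.coe_injective (by
            rw [← hQ₂, ← hfi, ← hQ₁, Set.image_image]
            exact Set.image_congr fun x hx => (hfeq x hx).symm)
          subst e
          exact hcongr hfeq (hcomp hQc (hf₁.restrict hQM) hQ₁ (hf₂.restrict hQ₁P) hQ₂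
            (hφ.2 Q Q₁ f₁ hQc hQM (fun x => hf₁e (Subgroup.inclusion hQM x)) hQ₁)
            (hψ.2 Q₁ Q₂ f₂ hQ₁c hQ₁P (fun x => hf₂e (Subgroup.inclusion hQ₁P x)) hQ₂))⟩
      inv_mem := fun {P₁ φ} hφ => by
        obtain ⟨ψ, hψ, hψe⟩ := (gen K).inv_mem hφ.1
        refine ⟨ψ, ⟨hψ, fun Q Q' f hQc hQM hfe hfi => ?_⟩, hψe⟩
        obtain ⟨f₁, hf₁, hf₁e⟩ := exists_mor hφ.1
        have hf : Mor (gen K) Q f := ⟨_, restrict_mem (gen K) hψ hQM, fun x => (hfe x).symm⟩
        have hQ'P : Q' ≤ P₁ := by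
          intro y hy
          obtain ⟨x, hx, rfl⟩ := hfi.symm.subset hy
          obtain ⟨z, hz⟩ := hQM hx
          rw [show f x = _ from hfe ⟨x, hx⟩,
            show Subgroup.inclusion hQM ⟨x, hx⟩ = (⟨φ z, z, rfl⟩ : φ.range) from
              Subtype.ext hz.symm, hψe]
          exact z.2
        have hl : ∀ x ∈ Q, f₁ (f x) = x := by
          intro x hx
          obtain ⟨z, hz⟩ := hQM hx
          rw [show f x = _ from hfe ⟨x, hx⟩,
            show Subgroup.inclusion hQM ⟨x, hx⟩ = (⟨φ z, z, rfl⟩ : φ.range) from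
              Subtype.ext hz.symm, hψe, hf₁e, hz]
        have hf₁i : f₁ '' (Q' : Set Ω) = Q := by
          rw [← hfi]; exact Generated.image_image_eq hl
        have hQ'c : (gen K).IsConj P₀ Q' := isConj_trans hQc (hf.isConj hfi)
        refine hinv hQ'c (hf₁.restrict hQ'P) hf₁i hf ?_
          (hφ.2 Q' Q f₁ hQ'c hQ'P (fun x => hf₁e (Subgroup.inclusion hQ'P x)) hf₁i)
        intro y hy
        obtain ⟨x, hx, rfl⟩ := hfi.symm.subset hy
        rw [hl x hx] }
  have hFE : (gen K).IsSubsystemOf E := gen_le K fun M hM α hα => by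
    have hαg := (mem_autGroup_iff _ hM.1).1 (gen_gen K hM hα)
    refine (mem_autGroup_iff _ hM.1).2 ⟨hαg, fun Q Q' f hQc hQM hfe hfi => ?_⟩
    by_cases hQeq : Q = M
    · subst hQeq
      have hfa : ∀ x : Q, f x = ((α x : Q) : Ω) := fun x => hfe x
      have hQ'Q : Q' = Q := by
        refine SetLike.coe_injective ?_
        rw [← hfi]
        ext y
        constructor
        · rintro ⟨x, hx, rfl⟩
          rw [show f x = _ from hfa ⟨x, hx⟩]
          exact (α ⟨x, hx⟩).2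
        · intro hy
          refine ⟨_, (α⁻¹ ⟨y, hy⟩).2, (hfa _).trans ?_⟩
          exact congrArg Subtype.val (α.apply_symm_apply ⟨y, hy⟩)
      rw [hQ'Q]
      exact hself hQc hM hα hfa
    obtain ⟨f₁, hf₁, hf₁e⟩ := exists_mor hαg
    have : Finite M := finite_of_le hM.1
    obtain ⟨g, hg, hgQ⟩ :=
      Fusion.Alperin.exists_normalizing_not_mem (hRp.to_le hM.1) hQM hQeq
    have hle : normalizerIn M Q ≤ normalizerIn R Q := fun y hy => ⟨hM.1 hy.1, hy.2⟩
    have heq : ∀ x ∈ Q, f x = f₁ x := fun x hx =>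
      (hfe ⟨x, hx⟩).trans (hf₁e (Subgroup.inclusion hQM ⟨x, hx⟩)).symm
    refine hcongr heq (hlink hQc (le_normalizerIn hQM) hle
      (Fusion.Alperin.card_lt_of_le_of_mem (hle.trans (normalizerIn_le Q)) (le_normalizerIn hQM)
        hg hgQ) (hf₁.restrict (normalizerIn_le Q)) ?_)
    rw [← hfi]
    exact Set.image_congr fun x hx => (heq x hx).symm
  obtain ⟨φ, hφ, hφe⟩ := hf
  exact (hFE Q hφ).2 Q Q' f hQ le_rfl (fun x => (hφe x).symm) hfi

variable [Finite R] [Fact p.Prime] (hRp : IsPGroup p R)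

include hRp in
/-- Every member of a class is received by its fully normalized member. -/
theorem recv_all {P : Subgroup Ω} (hPne : P ≠ R) (hP : (gen K).IsFullyNormalized P)
    (hbig : ∀ M, M ≤ R → Nat.card P < Nat.card M → Sat (gen K) p M) {Q : Subgroup Ω}
    (hQ : (gen K).IsConj P Q) : Recv (gen K) Q P := by
  obtain ⟨f, hf, hfi⟩ := exists_mor_of_isConj hQ
  have hlinks := fun m => Generated.linksFrom_all hRp hPne hbig m
  have hC : Common (gen K) P Q := by
    refine class_induction K hRp hPne (fun A B _ => Common (gen K) A B) (fun _ h => h) ?_ ?_ ?_ ?_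
      (isConj_refl (gen K) hP.1) hf hfi
    · intro A B C f g hA hf hfi hg hgi h1 h2
      exact Generated.common_join hPne hRp (hlinks 0) (isConj_trans hA (hf.isConj hfi))
        (Nat.zero_le _) h1 h2 (isConj_le_right hA)
        (isConj_le_right (isConj_trans (isConj_trans hA (hf.isConj hfi)) (hg.isConj hgi)))
    · exact fun _ _ _ _ _ h => h.imp fun R hR => ⟨hR.2, hR.1⟩
    · intro N A B f hA hAN hN hlt hf hfi
      exact hlinks 0 N A B f hA hAN hN hlt (Nat.zero_le _) hf hfi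
    · intro A a f hA _ _ _
      have h1 : Recv (gen K) A A := ⟨id, mor_id (normalizerIn_le A), Set.image_id _⟩
      exact ⟨A, h1, h1⟩
  obtain ⟨T, ⟨g, hg, hgi⟩, hQT⟩ := hC
  refine Generated.recv_trans (isConj_le_right hQ) hQT ?_
  have hPT : (gen K).IsConj P T := (hg.restrict (le_normalizerIn hP.1)).isConj hgi
  obtain ⟨N', hN', -⟩ := hg.exists_img (le_refl (normalizerIn R P))
  have : Finite (normalizerIn R T) := finite_of_le (normalizerIn_le T)
  have hN'T : N' = normalizerIn R T := by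
    refine Subgroup.eq_of_le_of_card_ge (fun y hy => ?_) ?_
    · obtain ⟨x, hx, rfl⟩ := hN'.symm.subset hy
      exact hg.map_normalizer (le_normalizerIn hP.1) hgi hx hx.2
    · rw [hg.card_img le_rfl hN']
      exact hP.2 T hPT
  obtain ⟨g', hg', hgl, -, -⟩ := hg.exists_inv hN'
  refine ⟨g', hN'T ▸ hg', ?_⟩
  rw [← hgi]; exact Generated.image_image_eq fun x hx => hgl x (le_normalizerIn hP.1 hx)

omit [Fact p.Prime] in
/-- The generated automorphisms of `R` are those in `A R`. -/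
theorem autGroup_top : (gen K).autGroup R = A R := by
  have htc : TCentric F R R := ⟨le_rfl, fun f hf c hc _ => by
    obtain ⟨M, hM, -⟩ := hf.exists_img le_rfl
    have hle : M ≤ R := fun y hy => by
      obtain ⟨x, hx, rfl⟩ := hM.symm.subset hy
      exact Comp89.mor_mem_closed K.closed hf hx hx
    have e := Subgroup.eq_of_le_of_card_ge hle (hf.card_img le_rfl hM).ge
    obtain ⟨x, hx, hxc⟩ := hM.symm.subset (show c ∈ (M : Set Ω) by rw [e]; exact hc)
    exact ⟨x, hx, hxc⟩⟩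
  refine le_antisymm ?_ (gen_gen K htc)
  let D : Cfsg.FusionSystem R :=
    { Hom := fun M => {φ | φ ∈ (gen K).Hom M ∧
        (M = R → ∃ a ∈ A R, ∀ (x : M) (h : (x : Ω) ∈ R), φ x = ((a ⟨x, h⟩ : R) : Ω))}
      le_of_mem := fun h => (gen K).le_of_mem h.1
      injective_of_mem := fun h => (gen K).injective_of_mem h.1
      conj_mem := fun {M g} hM hg => ⟨(gen K).conj_mem hM hg, fun _ =>
        ⟨_, K.induced_le R htc (conjAut_mem_autInducedBy (Subgroup.le_normalizer hg) hg),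
          fun x h => rfl⟩⟩
      comp_mem := fun {M N φ ψ} hφ hψ hm => ⟨(gen K).comp_mem hφ.1 hψ.1 hm, fun hM => by
        obtain ⟨a, ha, hae⟩ := hφ.2 hM
        have hN : N = R := by
          refine le_antisymm (hom_le _ hψ.1) fun y hy => ?_
          have h1 := hae ⟨((a⁻¹ ⟨y, hy⟩ : R) : Ω), hM ▸ (a⁻¹ ⟨y, hy⟩).2⟩ (a⁻¹ ⟨y, hy⟩).2
          rw [Subtype.coe_eta, MulAut.apply_inv_self] at h1
          rw [← show φ _ = y from h1]
          exact hm _
        obtain ⟨b, hb, hbe⟩ := hψ.2 hN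
        refine ⟨b * a, mul_mem hb ha, fun x h => ?_⟩
        show ψ ⟨φ x, hm x⟩ = ((b (a ⟨x, h⟩) : R) : Ω)
        rw [hbe ⟨φ x, hm x⟩ (hN ▸ hm x)]
        congr 2
        exact Subtype.ext (hae x h)⟩
      inv_mem := fun {M φ} hφ => by
        obtain ⟨ψ, hψ, hψe⟩ := (gen K).inv_mem hφ.1
        refine ⟨ψ, ⟨hψ, fun hr => ?_⟩, hψe⟩
        have hM : M = R := Subgroup.eq_of_le_of_card_ge (hom_le _ hφ.1)
          (le_of_eq (by rw [← hr, isConj_card (isConj_of_hom (gen K) hφ.1)]))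
        obtain ⟨a, ha, hae⟩ := hφ.2 hM
        refine ⟨a⁻¹, inv_mem ha, ?_⟩
        rintro ⟨y, z, rfl⟩ h
        rw [hψe z]
        have h1 : (⟨φ z, h⟩ : R) = a ⟨z, hM ▸ z.2⟩ := Subtype.ext (hae z (hM ▸ z.2))
        rw [h1, MulAut.inv_apply_self] }
  have hD : (gen K).IsSubsystemOf D := gen_le K fun M hM α hα => by
    refine (mem_autGroup_iff _ hM.1).2 ⟨(mem_autGroup_iff _ hM.1).1 (gen_gen K hM hα), fun e => ?_⟩
    subst e
    exact ⟨α, hα, fun x h => rfl⟩
  intro b hb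
  obtain ⟨a, ha, hae⟩ := (hD R ((mem_autGroup_iff _ le_rfl).1 hb)).2 rfl
  have e : b = a := MulEquiv.ext fun x => Subtype.ext (hae x x.2)
  exact e ▸ ha

end CfsgLib.Meet.Gen
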